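import Cfsg.Agent.Lib.Extra.CoOneUniq.Classes.Instance

/-!
# The descent from the structure of a group of Conway type
-/

set_option autoImplicit false

namespace Cfsg.Lib.CoOneUniq

open Cfsg Cfsg.Lib.CoOne Cfsg.Lib.Extra.Wide Cfsg.Lib.Linear.Orth

theorem fusion_control {G : Type*} [Group G] {M : Subgroup G} (θ : ↥M ≃* Spor.Co1)
    (hmeet : ∀ a : G, a * a = 1 → a ≠ 1 → ∃ g : G, g * a * g⁻¹ ∈ M)
    {a b c : G} (ha : orderOf a = 2) (hb : orderOf b = 2) (hc : orderOf c = 2) (hab : ¬ IsConj a b)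
    (hac : ¬ IsConj a c) (hbc : ¬ IsConj b c) :
    ∀ p q : ↥M, p * p = 1 → p ≠ 1 → IsConj (p : G) (q : G) → IsConj p q := by
  classical
  let r : Fin 3 → G := ![a, b, c]
  have hr : ∀ i, orderOf (r i) = 2 := by intro i; fin_cases i <;> assumption
  have hinj : ∀ i j, IsConj (r i) (r j) → i = j := by
    have h' : ¬ IsConj b a ∧ ¬ IsConj c a ∧ ¬ IsConj c b := ⟨mt IsConj.symm hab, mt IsConj.symm hac, mt IsConj.symm hbc⟩
    intro i j
    fin_cases i <;> fin_cases j <;> simp [r, hab, hac, hbc, h', -isConj_iff]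
  choose g hg using fun i => hmeet (r i) (sq_of_order_two (hr i)).1 (sq_of_order_two (hr i)).2
  let w : Fin 3 → ↥M := fun i => ⟨_, hg i⟩
  have hw : ∀ i, w i * w i = 1 ∧ w i ≠ 1 := fun i => by
    obtain ⟨h1, h2⟩ := sq_of_order_two (hr i)
    refine ⟨Subtype.ext ?_, fun e => h2 (conj_eq_one_iff.1 (congrArg Subtype.val e))⟩
    show g i * r i * (g i)⁻¹ * (g i * r i * (g i)⁻¹) = 1
    rw [show g i * r i * (g i)⁻¹ * (g i * r i * (g i)⁻¹) = g i * (r i * r i) * (g i)⁻¹ by group, h1]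
    group
  have hθw : ∀ i, θ (w i) * θ (w i) = 1 ∧ θ (w i) ≠ 1 := fun i =>
    ⟨by rw [← map_mul, (hw i).1, map_one], fun e => (hw i).2 (θ.injective (by rw [e, map_one]))⟩
  let rep : Fin 3 → Spor.Co1 := ![zEl, dEl, xEl]
  have hrep : ∀ u : Spor.Co1, u * u = 1 → u ≠ 1 → ∃ i, IsConj (rep i) u := fun u h1 h2 => by
    rcases involution_cases h1 h2 with h | h | h
    · exact ⟨0, h⟩
    · exact ⟨1, h⟩
    · exact ⟨2, h⟩
  choose f hf using fun i => hrep (θ (w i)) (hθw i).1 (hθw i).2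
  have back : ∀ {x y : ↥M}, IsConj (θ x) (θ y) → IsConj x y := fun {x y} h => by
    simpa using θ.symm.toMonoidHom.map_isConj h
  have finj : Function.Injective f := fun i j e => by
    have h : IsConj (w i) (w j) := back ((hf i).symm.trans (e ▸ hf j))
    exact hinj i j (((isConj_iff.2 ⟨g i, rfl⟩).trans (M.subtype.map_isConj h)).trans
      (IsConj.symm (isConj_iff.2 ⟨g j, rfl⟩)))
  have fsurj : Function.Surjective f := Finite.surjective_of_injective finj
  have hall : ∀ p : ↥M, p * p = 1 → p ≠ 1 → ∃ i, IsConj (w i) p := fun p h1 h2 => by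
    obtain ⟨k, hk⟩ := hrep (θ p) (by rw [← map_mul, h1, map_one])
      fun e => h2 (θ.injective (by rw [e, map_one]))
    obtain ⟨i, rfl⟩ := fsurj k
    exact ⟨i, back ((hf i).symm.trans hk)⟩
  intro p q h1 h2 h
  have hq : q * q = 1 ∧ q ≠ 1 := by
    obtain ⟨k, hk⟩ := isConj_iff.1 h
    refine ⟨Subtype.ext ?_, fun e => h2 (Subtype.ext ?_)⟩
    · show (q : G) * q = 1
      rw [← hk, show k * p * k⁻¹ * (k * p * k⁻¹) = k * ((p * p : ↥M) : G) * k⁻¹ by push_cast; group, h1]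
      simp
    · rw [e] at hk
      simpa using conj_eq_one_iff.1 hk
  obtain ⟨i, hi⟩ := hall p h1 h2
  obtain ⟨j, hj⟩ := hall q hq.1 hq.2
  have hij : i = j := hinj i j ((((isConj_iff.2 ⟨g i, rfl⟩).trans (M.subtype.map_isConj hi)).trans
    h).trans ((M.subtype.map_isConj hj).symm.trans (IsConj.symm (isConj_iff.2 ⟨g j, rfl⟩))))
  exact hi.symm.trans (hij ▸ hj)

/-- A subgroup isomorphic to the first Conway group containing the centralizer is everything. -/
theorem descent_of_data {G : Type*} [Group G] [Finite G] {ι : Type} [Fintype ι] [DecidableEq ι]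
    (D : Data G ι) (h8 : Fintype.card ι = 8) (hA : ∃ A, IsHalf D.qf A) {M : Subgroup G}
    (θ : ↥M ≃* Spor.Co1) (z0 : ↥M) (hz0 : (z0 : G) = D.z) (hz : θ z0 = zEl)
    (hC : Subgroup.centralizer ({D.z} : Set G) ≤ M) : M = ⊤ := by
  have hmeet : ∀ a : G, a * a = 1 → a ≠ 1 → ∃ g : G, g * a * g⁻¹ ∈ M := fun a h h1 => by
    obtain ⟨g, hg⟩ := D.exists_mem_centralizer (orderOf_two h h1)
    exact ⟨g, hC (Subgroup.mem_centralizer_singleton_iff.2 hg.eq)⟩
  obtain ⟨a, b, c, ha, hb, hc, hab, hac, hbc, -⟩ := D.three_classes h8 hA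
  exact descent_top θ z0 hz (hz0 ▸ hC) (fusion_control θ hmeet ha hb hc hab hac hbc) hmeet

end Cfsg.Lib.CoOneUniq
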