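import Cfsg.Agent.Lib.Extra.CoOneUniq.Classes.Mono

/-!
# Pairs of commuting central involutions with product of the second class

Up to conjugation in the centralizer they are the octad and a dodecad meeting it in two points, and
the common centralizer of these is monomial.
-/

set_option autoImplicit false
set_option maxRecDepth 8000

namespace Cfsg.Lib.CoOneUniq

open Cfsg Cfsg.Lib.Concrete Cfsg.Lib.Leech Cfsg.Lib.CoOne
open scoped Pointwise symmDiff

/-- A diagonal sign change. -/
noncomputable abbrev sg (m : ℕ) (h : mset m ∈ codeSets) : Co0 := monoCo0 1 (one_mem _) (mset m) h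

theorem sg_smul {m : ℕ} (h : mset m ∈ codeSets) (v : leechLattice) (p : GolayPt) :
    ((sg m h • v : leechLattice) : GolayPt → ℤ) p =
      if p ∈ mset m then -(v : GolayPt → ℤ) p else (v : GolayPt → ℤ) p := by
  rw [monoCo0_smul, signedPerm_one]

theorem mono_eq {σ τ : Equiv.Perm GolayPt} (hσ : σ ∈ M24) (hτ : τ ∈ M24) {c d : Finset GolayPt}
    (hc : c ∈ codeSets) (hd : d ∈ codeSets) (h : monoCo0 σ hσ c hc = monoCo0 τ hτ d hd) : σ = τ ∧ c = d :=
  mono_ext fun v => by rw [← monoCo0_smul σ hσ c hc v, ← monoCo0_smul τ hτ d hd v, h]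

/-- Commuting with a sign change keeps its set. -/
theorem smul_eq_of_commute {σ : Equiv.Perm GolayPt} (hσ : σ ∈ M24) {c : Finset GolayPt} (hc : c ∈ codeSets)
    {d : Finset GolayPt} (hd : d ∈ codeSets)
    (h : Commute (monoCo0 σ hσ c hc) (monoCo0 1 (one_mem _) d hd)) : σ • d = d := by
  have e := h.eq
  rw [mono_mul hσ (one_mem _) hc hd (symmDiff_mem_supports hc (code_smul hσ hd)),
    mono_mul (one_mem _) hσ hd hc (symmDiff_mem_supports hd (by rw [one_smul]; exact hc))] at e
  have e2 := (mono_eq _ _ _ _ e).2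
  rw [one_smul, symmDiff_comm d c] at e2
  exact symmDiff_right_injective c e2

theorem eps_eq : eps = monoCo0 1 (one_mem _) oSet oSet_mem := rfl

theorem dEl_lift_facts :
    zb (emul (pId, outMask) (pId, dMask')) = true ∧ m24BaseOctad < 2 ^ 24 ∧
      Nat.land dMask m24BaseOctad = 8388609 := by
  decide +kernel

theorem zd_CZ : CZ (zEl * dEl) := by
  have h := enc_zEl.mul enc_dEl
  refine (h.CZ_iff ?_).2 dEl_lift_facts.1
  have hc : Commute zEl dEl := (enc_zEl.commute enc_dEl).2 (by decide +kernel)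
  rw [hc.symm.mul_mul_mul_comm, sq_one_of_class (Or.inl CZ_zEl), sq_one_of_class (Or.inr CW_dEl), one_mul]

/-- The common centralizer of the octad and the dodecad element is monomial. -/
theorem exists_mono_of_commute {u : Spor.Co1} (h1 : Commute u zEl) (h2 : Commute u dEl) :
    ∃ (σ : Equiv.Perm GolayPt) (hσ : σ ∈ M24) (c : Finset GolayPt) (hc : c ∈ codeSets),
      u = kq σ hσ c hc ∧ σ • oSet = oSet ∧ σ • mset dMask = mset dMask := by
  obtain ⟨g, rfl⟩ := kap_surj u
  have hz : Commute eps g := lift_commute CZ_zEl rfl rfl h1.symm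
  have hgc : g ∈ cEps := mem_cEps.2 hz.eq.symm
  have hd : Commute (eps * sg dMask dMask_code) g := by
    refine lift_commute zd_CZ ?_ rfl ((h1.mul_right h2).symm)
    rw [map_mul]; rfl
  have hdg : Commute (sg dMask dMask_code) g := by
    have h := hz.inv_left.mul_left hd
    rwa [inv_mul_cancel_left] at h
  set v := g • top with hv
  have hsupp : v ∈ oSub := smul_supp hgc top_supp
  have hoff : ∀ p, p ∉ mset dMask → (v : GolayPt → ℤ) p = 0 := by
    intro p hp
    have htop : sg dMask dMask_code • top = -top := by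
      refine Subtype.ext (funext fun q => ?_)
      rw [sg_smul]
      by_cases hq : q = none
      · subst hq
        rw [if_pos (by decide +kernel : (none : GolayPt) ∈ mset dMask)]
        rfl
      · have h0 : (top : leechLattice).1 q = 0 := Pi.single_eq_of_ne hq _
        show _ = -(top : leechLattice).1 q
        rw [h0]
        split <;> simp [h0]
    have e : sg dMask dMask_code • v = -v := by
      rw [hv, ← mul_smul, hdg.eq, mul_smul, htop, co0_neg]
    have := congrArg (fun w : leechLattice => (w : GolayPt → ℤ) p) e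
    simp only [AddSubgroup.coe_neg, Pi.neg_apply] at this
    rw [sg_smul, if_neg hp] at this
    omega
  have hpts : ∀ p ∈ oSet, p ∈ mset dMask → p = none ∨ p = some 0 := by decide +kernel
  have hzero : ∀ p, p ≠ none → p ≠ some 0 → (v : GolayPt → ℤ) p = 0 := by
    intro p h3 h4
    by_cases hp : p ∈ oSet
    · exact hoff p fun hd => (hpts p hp hd).elim h3 h4
    · exact hsupp p hp
  set a := (v : GolayPt → ℤ) none with ha
  set b := (v : GolayPt → ℤ) (some 0) with hb
  have hnorm : a ^ 2 + b ^ 2 = 64 := by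
    have h := co0_sqNorm g top
    have h64 : sqNorm ((top : leechLattice) : GolayPt → ℤ) = 64 := (stdCross_subset (e8_mem_stdCross none)).2
    rw [h64, ← hv] at h
    rw [sqNorm, ← Finset.sum_subset (Finset.subset_univ {none, some (0 : ZMod 23)}) (fun i _ hi => by
      simp only [Finset.mem_insert, Finset.mem_singleton, not_or] at hi
      rw [hzero i hi.1 hi.2]; rfl), Finset.sum_pair (by simp)] at h
    exact h
  have hab : (a = 0 ∧ (b = 8 ∨ b = -8)) ∨ (b = 0 ∧ (a = 8 ∨ a = -8)) := by
    have h1 : -8 ≤ a ∧ a ≤ 8 := ⟨by nlinarith, by nlinarith⟩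
    have h2 : -8 ≤ b ∧ b ≤ 8 := ⟨by nlinarith, by nlinarith⟩
    obtain ⟨h1, h1'⟩ := h1
    obtain ⟨h2, h2'⟩ := h2
    interval_cases a <;> interval_cases b <;> omega
  have hcross : g ∈ crossStab := by
    rw [mem_crossStab_iff_top, ← hv]
    rcases hab with ⟨h0, h8⟩ | ⟨h0, h8⟩
    · refine ⟨some 0, b, by omega, funext fun p => ?_⟩
      by_cases hp : p = some 0
      · subst hp; rw [Pi.single_eq_same]
      · rw [Pi.single_eq_of_ne hp]
        by_cases hn : p = none
        · subst hn; exact h0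
        · exact hzero p hn hp
    · refine ⟨none, a, by omega, funext fun p => ?_⟩
      by_cases hp : p = none
      · subst hp; rw [Pi.single_eq_same]
      · rw [Pi.single_eq_of_ne hp]
        by_cases hn : p = some 0
        · subst hn; exact h0
        · exact hzero p hp hn
  obtain ⟨σ, c, hc, hg⟩ := crossStab_monomial ⟨g, hcross⟩
  have hgm : g = monoCo0 σ.1 σ.2 c hc :=
    co0_ext fun i => Subtype.ext (by rw [monoCo0_smul]; exact hg (e8 i))
  refine ⟨σ.1, σ.2, c, hc, by rw [hgm]; rfl, stab_of_mono hgc hg, ?_⟩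
  exact smul_eq_of_commute σ.2 hc dMask_code (hgm ▸ hdg.symm)

/-- A set kept by a fixed-point-free involution is even. -/
theorem even_card_of_involution {α : Type*} [DecidableEq α] (s : Finset α) (σ : α → α)
    (h1 : ∀ x ∈ s, σ x ∈ s) (h2 : ∀ x ∈ s, σ (σ x) = x) (h3 : ∀ x ∈ s, σ x ≠ x) : Even s.card := by
  have : (∑ _x ∈ s, (1 : ZMod 2)) = 0 :=
    Finset.sum_involution (fun x _ => σ x) (fun _ _ => by decide) (fun x hx _ => h3 x hx) h1 h2
  rw [Finset.sum_const, nsmul_eq_mul, mul_one] at this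
  exact ZMod.natCast_eq_zero_iff_even.1 this

theorem sum_signs (s c : Finset GolayPt) :
    (∑ i ∈ s, if i ∈ c then (-1 : ℤ) else 1) = s.card - 2 * (s ∩ c).card := by
  rw [Finset.sum_ite, Finset.sum_const, Finset.sum_const, Finset.filter_mem_eq_inter]
  have h : (s.filter fun i => i ∉ c).card + (s ∩ c).card = s.card := by
    rw [← Finset.filter_mem_eq_inter, add_comm, Finset.card_filter_add_card_filter_not]
  simp only [nsmul_eq_mul, mul_neg, mul_one]
  omega

/-- An involution of the centralizer of the octad element fixes a coset of the monomial group. -/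
theorem exists_conj_cross {h : Co0} (hc : h ∈ cEps) (hh : h * h = 1) :
    ∃ k ∈ cEps, k⁻¹ * h * k ∈ crossStab := by
  haveI : Finite Co0 := finite_Co0
  have hC : Nat.card ↥cEps = 135 * (4096 * 322560) := by
    have h1 := toO.ker.card_mul_index
    rw [Subgroup.index_ker, range_eq, card_ker, card_omega] at h1
    omega
  have hidx : cCross.index = 135 := by
    have h1 := cCross.card_mul_index
    have h2 := card_cCross
    have h3 := index_cCross
    rw [hC] at h1
    nlinarith
  set x : ↥cEps := ⟨h, hc⟩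
  have hx : x * x = 1 := Subtype.ext hh
  by_contra hno
  push Not at hno
  haveI : Fintype (↥cEps ⧸ cCross) := Fintype.ofFinite _
  classical
  have := even_card_of_involution (Finset.univ : Finset (↥cEps ⧸ cCross)) (fun q => x • q)
    (fun q _ => Finset.mem_univ _) (fun q _ => by rw [← mul_smul, hx, one_smul]) (fun q _ => by
      induction q using QuotientGroup.induction_on with
      | H k =>
        intro e
        refine hno k k.2 ?_
        have e' : ((x * k : ↥cEps) : ↥cEps ⧸ cCross) = k := e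
        have h4 : k⁻¹ * (x * k) ∈ cCross := QuotientGroup.eq.1 e'.symm
        rw [← mul_assoc] at h4
        exact h4)
  rw [Finset.card_univ, ← Nat.card_eq_fintype_card, ← Subgroup.index, hidx] at this
  exact absurd this (by decide)

/-- The hypothesis on a lift. -/
structure PairLift (h : Co0) : Prop where
  mem : h ∈ cEps
  sq : h * h = 1
  tr0 : tr h = 0
  trE : tr (eps * h) ^ 2 = 12

theorem PairLift.conj {h : Co0} (H : PairLift h) {k : Co0} (hk : k ∈ cEps) : PairLift (k * h * k⁻¹) where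
  mem := mul_mem (mul_mem hk H.mem) (inv_mem hk)
  sq := by rw [show k * h * k⁻¹ * (k * h * k⁻¹) = k * (h * h) * k⁻¹ by group, H.sq]; group
  tr0 := by rw [tr_conj, H.tr0]
  trE := by
    rw [show eps * (k * h * k⁻¹) = k * (eps * h) * k⁻¹ by
      rw [show eps * (k * h * k⁻¹) = eps * k * h * k⁻¹ by group, ← mem_cEps.1 hk]; group, tr_conj, H.trE]

/-- The sums of signs inside and outside the octad. -/
theorem PairLift.sums {σ : Equiv.Perm GolayPt} {hσ : σ ∈ M24} {c : Finset GolayPt} {hc : c ∈ codeSets}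
    (H : PairLift (monoCo0 σ hσ c hc)) :
    (((oSet.filter fun i => σ i = i).card : ℤ) - 2 * ((oSet.filter fun i => σ i = i) ∩ c).card = 4 ∨
      ((oSet.filter fun i => σ i = i).card : ℤ) - 2 * ((oSet.filter fun i => σ i = i) ∩ c).card = -4) ∧
      ∃ i, i ∉ oSet ∧ σ i = i := by
  have he : oSet ∆ ((1 : Equiv.Perm GolayPt) • c) ∈ codeSets :=
    symmDiff_mem_supports oSet_mem (by rw [one_smul]; exact hc)
  set f : GolayPt → ℤ := fun i => if i ∈ c then -1 else 1 with hf
  set X := oSet.filter fun i => σ i = i with hX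
  set Y := (Finset.univ \ oSet).filter fun i => σ i = i with hY
  have hsplit : ∀ (g : GolayPt → ZMod 13), (∑ i, if σ i = i then g i else 0) = (∑ i ∈ X, g i) + ∑ i ∈ Y, g i := by
    intro g
    rw [← Finset.sum_sdiff (Finset.subset_univ oSet), Finset.sum_filter, Finset.sum_filter, add_comm]
  have h0 : ((∑ i ∈ X, f i : ℤ) : ZMod 13) + ((∑ i ∈ Y, f i : ℤ) : ZMod 13) = 0 := by
    rw [← H.tr0, tr_mono, hsplit]
    push_cast
    simp only [hf, apply_ite (Int.cast (R := ZMod 13)), Int.cast_neg, Int.cast_one]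
  have h12 : (-((∑ i ∈ X, f i : ℤ) : ZMod 13) + ((∑ i ∈ Y, f i : ℤ) : ZMod 13)) ^ 2 = 12 := by
    rw [← H.trE, eps_eq, mono_mul (one_mem _) hσ oSet_mem hc he, tr_mono]
    simp only [one_mul, one_smul]
    rw [hsplit]
    push_cast
    congr 2
    · rw [← Finset.sum_neg_distrib]
      refine Finset.sum_congr rfl fun i hi => ?_
      have hio : i ∈ oSet := (Finset.mem_filter.1 hi).1
      by_cases hic : i ∈ c <;> simp [hf, hic, hio, Finset.mem_symmDiff]
    · refine Finset.sum_congr rfl fun i hi => ?_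
      have hio : i ∉ oSet := (Finset.mem_sdiff.1 (Finset.mem_filter.1 hi).1).2
      by_cases hic : i ∈ c <;> simp [hf, hic, hio, Finset.mem_symmDiff]
  have hS := sum_signs X c
  have hb : X.card ≤ 8 := le_trans (Finset.card_filter_le _ _) oSet_octad.2.le
  have hi : (X ∩ c).card ≤ X.card := Finset.card_le_card Finset.inter_subset_left
  set S := (∑ i ∈ X, f i : ℤ) with hSdef
  have hkey : ∀ s : ZMod 13, ∀ t : ZMod 13, s + t = 0 → (-s + t) ^ 2 = 12 → s = 4 ∨ s = 9 := by decide
  have hfour : S = 4 ∨ S = -4 := by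
    have h := hkey _ _ h0 h12
    have hr : -8 ≤ S ∧ S ≤ 8 := by
      have : S = (X.card : ℤ) - 2 * (X ∩ c).card := hS
      omega
    obtain ⟨hr1, hr2⟩ := hr
    interval_cases S <;> revert h <;> decide
  refine ⟨by rw [← hS]; exact hfour, ?_⟩
  by_contra hno
  push Not at hno
  have hYe : Y = ∅ := Finset.filter_eq_empty_iff.2 fun i hi => hno i (Finset.mem_sdiff.1 hi).2
  rw [hYe, Finset.sum_empty, Int.cast_zero, add_zero] at h0
  rcases hfour with e | e <;> rw [e] at h0 <;> exact absurd h0 (by decide)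

theorem fx_fixed : ∀ i : Fin 16, (∀ x : GolayPt, pFun (fP i) x = x) ∨ ∀ x : GolayPt, pFun (fP i) x = x → x ∈ oSet := by
  decide +kernel

theorem diag_codes :
    codeList.all (fun m => !((tsum (pId, m) % 13 == 0) &&
        Nat.beq ((11 * (pcnt (Nat.land m m24BaseOctad)) + 8) ^ 2 % 13) 3) ||
      (Nat.beq (pcnt m) 12 && (Nat.beq (pcnt (Nat.land m m24BaseOctad)) 2 ||
        Nat.beq (pcnt (Nat.land (m ^^^ 16777215) m24BaseOctad)) 2))) = true ∧
    codeList.all (fun m => !(Nat.beq (pcnt m) 12 && Nat.beq (Nat.land m m24BaseOctad) 8388609) ||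
      fixList.any fun p => Nat.beq (pimg p m) dMask) = true := by
  decide +kernel

theorem kq_conj_diag {σ : Equiv.Perm GolayPt} (hσ : σ ∈ M24) {d : Finset GolayPt} (hd : d ∈ codeSets) :
    kq σ hσ ∅ empty_mem_codeSets * kq 1 (one_mem _) d hd * (kq σ hσ ∅ empty_mem_codeSets)⁻¹ =
      kq 1 (one_mem _) (σ • d) (code_smul hσ hd) := by
  rw [mul_inv_eq_iff_eq_mul, kq_mul, kq_mul]
  refine kq_congr _ _ _ _ (by rw [mul_one, one_mul]) ?_
  rw [one_smul, ← Finset.bot_eq_empty, bot_symmDiff, symmDiff_bot]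

theorem kq_empty_mem {σ : Equiv.Perm GolayPt} (hσ : σ ∈ M24) (h : σ • oSet = oSet) :
    Commute (kq σ hσ ∅ empty_mem_codeSets) zEl := by
  have hz : zEl = kq 1 (one_mem _) oSet oSet_mem := rfl
  rw [hz, commute_iff_eq, kq_mul, kq_mul]
  refine kq_congr _ _ _ _ (by rw [mul_one, one_mul]) ?_
  rw [h, one_smul, ← Finset.bot_eq_empty, bot_symmDiff, symmDiff_bot]

/-- A monomial pair element trivial on the octad is conjugate to the dodecad element. -/
theorem diag_conj {σ : Equiv.Perm GolayPt} (hσ : σ ∈ M24) {c : Finset GolayPt} (hc : c ∈ codeSets)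
    (H : PairLift (monoCo0 σ hσ c hc)) (hfix : ∀ p ∈ oSet, σ p = p) :
    ∃ k : Spor.Co1, Commute k zEl ∧ k * kq σ hσ c hc * k⁻¹ = dEl := by
  classical
  obtain ⟨hS, x, hxo, hx⟩ := H.sums
  obtain ⟨i, hi⟩ := exists_fx (mem_fixSet.2 ⟨hσ, hfix⟩)
  have hσ1 : σ = 1 := by
    rcases fx_fixed i with h | h
    · rw [← hi]; exact Equiv.ext fun p => h p
    · exact absurd (h x (by rw [← hi] at hx; exact hx)) hxo
  subst hσ1
  have hX : (oSet.filter fun p => (1 : Equiv.Perm GolayPt) p = p) = oSet :=
    Finset.filter_true_of_mem fun _ _ => rfl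
  rw [hX, oSet_octad.2] at hS
  obtain ⟨m, hm, rfl⟩ := mem_supports_iff.1 hc
  have hm24 := codeList_lt hm
  have ht : tsum (pId, m) % 13 = 0 := by
    have h := H.tr0
    rw [tr_mono_mask (one_mem M24) rep_one hc, ZMod.natCast_eq_zero_iff] at h
    exact Nat.mod_eq_zero_of_dvd h
  have hOm : (oSet ∩ mset m).card = pcnt (Nat.land m m24BaseOctad) := by
    rw [Finset.inter_comm, show oSet = mset m24BaseOctad from rfl, ← mset_and, mset_card, mcnt_eq_pcnt]
    rfl
  rw [hOm] at hS
  have hd := List.all_eq_true.1 diag_codes.1 m hm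
  simp only [Bool.or_eq_true, Bool.not_eq_true', Bool.and_eq_false_iff, Bool.and_eq_true, Nat.beq_eq,
    beq_eq_false_iff_ne, ne_eq] at hd
  obtain ⟨h12, h2⟩ : pcnt m = 12 ∧ (pcnt (Nat.land m m24BaseOctad) = 2 ∨
      pcnt (Nat.land (m ^^^ 16777215) m24BaseOctad) = 2) := by
    rcases hd with (h | h) | h
    · exact absurd ht h
    · exfalso
      have : pcnt (Nat.land m m24BaseOctad) = 2 ∨ pcnt (Nat.land m m24BaseOctad) = 6 := by omega
      rcases this with e | e <;> rw [e] at h <;> exact absurd h (by decide)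
    · exact h
  obtain ⟨n, hn, hn24, hn12, hn2, hkm⟩ : ∃ n, ∃ hn : mset n ∈ codeSets, n < 2 ^ 24 ∧ pcnt n = 12 ∧
      pcnt (Nat.land n m24BaseOctad) = 2 ∧ kq 1 (one_mem _) (mset m) hc = kq 1 (one_mem _) (mset n) hn := by
    rcases h2 with h2 | h2
    · exact ⟨m, hc, hm24, h12, h2, rfl⟩
    · have hs : mset (m ^^^ 16777215) = Finset.univ ∆ mset m := by rw [mset_xor, mset_full, symmDiff_comm]
      have hn : mset (m ^^^ 16777215) ∈ codeSets := hs ▸ symmDiff_mem_supports CoOne.univ_mem hc
      refine ⟨_, hn, Nat.xor_lt_two_pow hm24 (by norm_num), ?_, h2, ?_⟩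
      · have e : (mset (m ^^^ 16777215)).card = 12 := by
          rw [hs, show Finset.univ ∆ mset m = Finset.univ \ mset m by
            ext p; simp [Finset.mem_symmDiff], Finset.card_univ_diff, mset_card, mcnt_eq_pcnt, h12]
          rfl
        rwa [mset_card, mcnt_eq_pcnt] at e
      · exact (kq_univ_compl (one_mem _) hc).trans (kq_congr _ _ _ _ rfl hs.symm)
  set P := mset n ∩ oSet with hP
  have hPc : P.card = 2 := by
    rw [hP, show oSet = mset m24BaseOctad from rfl, ← mset_and, mset_card, mcnt_eq_pcnt]; exact hn2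
  obtain ⟨a, b, hab, hPab⟩ := Finset.card_eq_two.1 hPc
  have hQ : (oSet \ P).card = 6 := by
    have hsub : P ⊆ oSet := Finset.inter_subset_right
    have h1 := Finset.card_sdiff_add_card_eq_card hsub
    rw [hPc, oSet_octad.2] at h1
    omega
  obtain ⟨R, hRsub, hRc⟩ := Finset.exists_subset_card_eq (show 3 ≤ (oSet \ P).card by omega)
  obtain ⟨c1, c2, c3, h12', h13, h23, rfl⟩ := Finset.card_eq_three.1 hRc
  have hmem : ∀ y ∈ ({c1, c2, c3} : Finset GolayPt), y ∈ oSet ∧ y ∉ P := fun y hy => Finset.mem_sdiff.1 (hRsub hy)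
  obtain ⟨hc1o, hc1P⟩ := hmem c1 (by simp)
  obtain ⟨hc2o, hc2P⟩ := hmem c2 (by simp)
  obtain ⟨hc3o, hc3P⟩ := hmem c3 (by simp)
  rw [hPab] at hc1P hc2P hc3P
  simp only [Finset.mem_insert, Finset.mem_singleton, not_or] at hc1P hc2P hc3P
  have hinj : Function.Injective ![a, b, c1, c2, c3] := by
    intro i j e
    fin_cases i <;> fin_cases j <;> simp at e ⊢ <;> (try exact hab e) <;> (try exact hab e.symm) <;>
      (try exact absurd e.symm hc1P.1) <;> (try exact absurd e hc1P.1) <;> (try exact absurd e.symm hc1P.2) <;>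
      (try exact absurd e hc1P.2) <;> (try exact absurd e.symm hc2P.1) <;> (try exact absurd e hc2P.1) <;>
      (try exact absurd e.symm hc2P.2) <;> (try exact absurd e hc2P.2) <;> (try exact absurd e.symm hc3P.1) <;>
      (try exact absurd e hc3P.1) <;> (try exact absurd e.symm hc3P.2) <;> (try exact absurd e hc3P.2) <;>
      (try exact h12' e) <;> (try exact h12' e.symm) <;> (try exact h13 e) <;> (try exact h13 e.symm) <;>
      (try exact h23 e) <;> (try exact h23 e.symm)
  obtain ⟨g, hg, hgx⟩ := exists_map_base ⟨_, hinj⟩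
  have hPo : a ∈ oSet ∧ b ∈ oSet := by
    have h1 : ∀ y ∈ P, y ∈ oSet := fun y hy => (Finset.mem_inter.1 hy).2
    exact ⟨h1 a (by rw [hPab]; simp), h1 b (by rw [hPab]; simp)⟩
  have hgo : g • oSet = oSet := by
    refine octads_eq_of_five (smul_octad_mem hg oSet_octad) oSet_octad
      (s := Finset.univ.image ![a, b, c1, c2, c3]) ?_ ?_ ?_
    · rw [Finset.card_image_of_injective _ hinj]; rfl
    · intro y hy
      obtain ⟨j, -, rfl⟩ := Finset.mem_image.1 hy
      exact Finset.mem_smul_finset.2 ⟨bp j.val, bp_mem_baseOctad _ j.isLt, hgx j⟩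
    · intro y hy
      obtain ⟨j, -, rfl⟩ := Finset.mem_image.1 hy
      fin_cases j <;> simp [hPo.1, hPo.2, hc1o, hc2o, hc3o]
  have hgi : g⁻¹ • oSet = oSet := inv_smul_eq_iff.2 hgo.symm
  obtain ⟨n', hn', hn'e⟩ := mem_supports_iff.1 (code_smul (inv_mem hg) hn)
  have hn'24 := codeList_lt hn'
  have hint : Nat.land n' m24BaseOctad = 8388609 := by
    refine mset_inj (lt_of_le_of_lt Nat.and_le_left hn'24) (by norm_num) ?_
    show mset (n' &&& m24BaseOctad) = _
    rw [mset_and, hn'e, show mset m24BaseOctad = oSet from rfl]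
    conv_lhs => rw [← hgi]
    rw [← Finset.smul_finset_inter, ← hP, hPab]
    have h0 : bp 0 = g⁻¹ a := by
      rw [show a = g (bp 0) from (hgx 0).symm]; exact (g.symm_apply_apply _).symm
    have h1 : bp 1 = g⁻¹ b := by
      rw [show b = g (bp 1) from (hgx 1).symm]; exact (g.symm_apply_apply _).symm
    rw [Finset.smul_finset_insert, Finset.smul_finset_singleton, Equiv.Perm.smul_def, Equiv.Perm.smul_def, ← h0, ← h1]
    decide +kernel
  have hn'12 : pcnt n' = 12 := by
    rw [← mcnt_eq_pcnt, ← mset_card, hn'e, Finset.card_smul_finset, mset_card, mcnt_eq_pcnt, hn12]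
  have hl := List.all_eq_true.1 diag_codes.2 n' hn'
  simp only [hn'12, hint, Bool.or_eq_true, Bool.not_eq_true', List.any_eq_true, Nat.beq_eq] at hl
  obtain ⟨p, hp, hpe⟩ := hl.resolve_left (by decide)
  obtain ⟨j, hjlt, rfl⟩ := List.getElem_of_mem hp
  have hj16 : j < 16 := by simpa [fixList] using hjlt
  let ρ := fx ⟨j, hj16⟩ * g⁻¹
  have hρ : ρ ∈ M24 := mul_mem (fx_M24 _) (inv_mem hg)
  have hρo : ρ • oSet = oSet := by
    rw [mul_smul, hgi]
    refine Finset.eq_of_subset_of_card_le (fun q hq => ?_) (Finset.card_smul_finset _ oSet).ge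
    obtain ⟨p, hp, rfl⟩ := Finset.mem_smul_finset.1 hq
    rw [show fx ⟨j, hj16⟩ • p = p from ((pFun_fix _ p).2 hp)]
    exact hp
  refine ⟨kq ρ hρ ∅ empty_mem_codeSets, kq_empty_mem hρ hρo, ?_⟩
  rw [hkm, kq_conj_diag hρ hn]
  refine kq_congr _ _ _ _ rfl ?_
  rw [mul_smul, ← hn'e, Rep.smul_mset (fx_rep ⟨j, hj16⟩) n']
  refine congrArg mset ?_
  rw [fP, List.getD_eq_getElem _ _ hjlt]
  exact hpe

/-- The standard involution on the octad with two transpositions. -/
def pStd (p : GolayPt) : GolayPt :=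
  bif p == none then some 0 else bif p == some 0 then none else bif p == some 1 then some 2
  else bif p == some 2 then some 1 else p

/-- The signs of the standard involution. -/
def sStd (a b s : Bool) (p : GolayPt) : Bool :=
  bif p == none || p == some 0 then a else bif p == some 1 || p == some 2 then b else s

/-- The standard involution as a map. -/
def hStd (a b s : Bool) (x : GolayPt → ℤ) : GolayPt → ℤ := fun p =>
  if p ∈ oSet then (bif sStd a b s p then -x (pStd p) else x (pStd p)) else 0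

/-- A word of the code meeting the first tetrad in one point. -/
def wMask : ℕ := 4845570

/-- Sign change by the word, or nothing. -/
def wFun (b : Bool) (x : GolayPt → ℤ) : GolayPt → ℤ := fun p =>
  bif b && wMask.testBit (gidx p).val then -x p else x p

theorem std_check : isCode wMask = true ∧ wMask < 2 ^ 24 ∧ ∀ a b s : Bool, ∃ t : Bool, ∀ q ∈ oSet,
    (∀ p, p ∉ oSet → wFun t (xiFun (Pi.single q 8)) p = 0) ∧
    ((∀ p, xiFun (wFun t (hStd a b s (wFun t (xiFun (Pi.single q 8))))) p = (Pi.single q 8 : GolayPt → ℤ) p) ∨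
      ∀ p, xiFun (wFun t (hStd a b s (wFun t (xiFun (Pi.single q 8))))) p = -(Pi.single q 8 : GolayPt → ℤ) p) := by
  decide +kernel

theorem xi_eps : ∀ i p : GolayPt,
    xiFun (fun r => if r ∈ oSet then -(Pi.single i 8 : GolayPt → ℤ) r else (Pi.single i 8 : GolayPt → ℤ) r) p =
      if p ∈ oSet then -xiFun (Pi.single i 8) p else xiFun (Pi.single i 8) p := by
  decide +kernel

theorem xi_mem : xiCo0 ∈ cEps := by
  refine mem_cEps.2 (co0_ext fun i => Subtype.ext (funext fun p => ?_))
  rw [mul_smul, mul_smul, eps_smul, xiCo0_apply, xiCo0_apply]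
  rw [show ((eps • e8 i : leechLattice) : GolayPt → ℤ) =
    (fun r => if r ∈ oSet then -(Pi.single i 8 : GolayPt → ℤ) r else (Pi.single i 8 : GolayPt → ℤ) r) from
    funext fun r => eps_smul (e8 i) r]
  exact xi_eps i p

theorem pts_bp : oSet = {bp 0, bp 1, bp 2, bp 3} ∪ {bp 4, some 5, some 14, some 17} ∧
    (∀ j < 4, bp j ∈ oSet) ∧ bp 0 = none ∧ bp 1 = some 0 ∧ bp 2 = some 1 ∧ bp 3 = some 2 := by
  decide +kernel

/-- An element of the pair is conjugate to the dodecad element in the centralizer. -/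
theorem pair_conj {u : Spor.Co1} (hcz : Commute u zEl) (hw : CW u) (hz : CZ (zEl * u)) :
    ∃ k : Spor.Co1, Commute k zEl ∧ k * u * k⁻¹ = dEl := by
  classical
  obtain ⟨h, rfl⟩ := kap_surj u
  have hce : Commute eps h := lift_commute CZ_zEl rfl rfl hcz.symm
  have H : PairLift h :=
    ⟨mem_cEps.2 hce.eq.symm, (CW_lift hw rfl).1, (CW_lift hw rfl).2, (CZ_lift hz (by rw [map_mul]; rfl)).2⟩
  suffices hsuff : ∀ g : Co0, PairLift g → g ∈ crossStab →
      ∃ k : Spor.Co1, Commute k zEl ∧ k * kap g * k⁻¹ = dEl by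
    obtain ⟨k, hk, hcr⟩ := exists_conj_cross H.mem H.sq
    have H' := H.conj (inv_mem hk)
    rw [inv_inv] at H'
    obtain ⟨l, hl, e⟩ := hsuff _ H' hcr
    refine ⟨l * kap k⁻¹, hl.mul_left ?_, ?_⟩
    · have : Commute k⁻¹ eps := mem_cEps.1 (inv_mem hk)
      exact this.map kap
    · rw [← e]; simp only [map_mul, map_inv]; group
  intro g H hcr
  obtain ⟨σ, c, hc, hg⟩ := crossStab_monomial ⟨g, hcr⟩
  have hgm : g = monoCo0 σ.1 σ.2 c hc := co0_ext fun i => Subtype.ext (by rw [monoCo0_smul]; exact hg (e8 i))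
  subst hgm
  set π := σ.1 with hπ
  have hπo : π • oSet = oSet := stab_of_mono H.mem hg
  have hpo : ∀ p ∈ oSet, π p ∈ oSet := fun p hp => hπo ▸ Finset.smul_mem_smul_finset hp
  have hinv : π * π = 1 ∧ c ∆ (π • c) = ∅ := by
    have e := H.sq
    rw [mono_mul σ.2 σ.2 hc hc (symmDiff_mem_supports hc (code_smul σ.2 hc))] at e
    refine mono_ext fun v => ?_
    rw [← monoCo0_smul _ (mul_mem σ.2 σ.2) _ (symmDiff_mem_supports hc (code_smul σ.2 hc)) v, e, one_smul]
    funext p; simp [signedPerm, Equiv.Perm.one_symm]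
  have hππ : ∀ p, π (π p) = p := fun p => congrArg (fun f : Equiv.Perm GolayPt => f p) hinv.1
  have hcinv : π • c = c := by
    have h := hinv.2
    rw [← Finset.bot_eq_empty, symmDiff_eq_bot] at h
    exact h.symm
  have hciff : ∀ p, π p ∈ c ↔ p ∈ c := fun p => by
    conv_lhs => rw [← hcinv]
    exact Finset.smul_mem_smul_finset_iff π
  obtain ⟨hS, -⟩ := H.sums
  set X := oSet.filter fun i => π i = i with hXdef
  set Mv := oSet.filter fun i => ¬ π i = i with hMdef
  have hMe : ∀ d : Finset GolayPt, (∀ p, π p ∈ d ↔ p ∈ d) → Even (Mv ∩ d).card := fun d hd => by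
    refine even_card_of_involution _ π (fun p hp => ?_) (fun p _ => hππ p) fun p hp =>
      (Finset.mem_filter.1 (Finset.mem_inter.1 hp).1).2
    obtain ⟨h1, h2⟩ := Finset.mem_inter.1 hp
    obtain ⟨h1, h1'⟩ := Finset.mem_filter.1 h1
    exact Finset.mem_inter.2 ⟨Finset.mem_filter.2 ⟨hpo p h1, fun e => h1' (π.injective e)⟩, (hd p).2 h2⟩
  have hsum8 : X.card + Mv.card = 8 := by
    rw [hXdef, hMdef, Finset.card_filter_add_card_filter_not, oSet_octad.2]
  have hM2 : Even Mv.card := by
    have := hMe Finset.univ fun p => by simp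
    rwa [Finset.inter_univ] at this
  have hOc : Even (oSet ∩ c).card := by
    obtain ⟨m, hm, rfl⟩ := mem_supports_iff.1 hc
    rw [show oSet = mset m24BaseOctad from rfl, ← mset_and, mset_card, mcnt_eq_pcnt]
    have hall : codeList.all (fun m => Nat.beq (pcnt (m24BaseOctad &&& m) % 2) 0) = true := by decide +kernel
    have := List.all_eq_true.1 hall m hm
    rw [Nat.beq_eq] at this
    exact Nat.even_iff.2 this
  have hXc : Even (X ∩ c).card := by
    have hh : (X ∩ c).card + (Mv ∩ c).card = (oSet ∩ c).card := by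
      rw [← Finset.card_union_of_disjoint]
      · congr 1
        ext p
        simp only [hXdef, hMdef, Finset.mem_union, Finset.mem_inter, Finset.mem_filter]
        tauto
      · exact Finset.disjoint_left.2 fun p h1 h2 => (Finset.mem_filter.1 (Finset.mem_inter.1 h2).1).2
          (Finset.mem_filter.1 (Finset.mem_inter.1 h1).1).2
    have := hMe c hciff
    rw [← hh, Nat.even_add] at hOc
    exact hOc.2 this
  have hi : (X ∩ c).card ≤ X.card := Finset.card_le_card Finset.inter_subset_left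
  obtain ⟨hX8, hX4⟩ : (X.card = 8 ∨ X.card = 4) ∧ (X.card = 4 → (X ∩ c).card = 0 ∨ (X ∩ c).card = 4) := by
    obtain ⟨r1, hr1⟩ := hM2
    obtain ⟨r2, hr2⟩ := hXc
    constructor <;> omega
  rcases hX8 with h8 | h4
  · refine diag_conj σ.2 hc H fun p hp => ?_
    have : X = oSet := Finset.eq_of_subset_of_card_le (Finset.filter_subset _ _) (by rw [h8, oSet_octad.2])
    rw [← this] at hp
    exact (Finset.mem_filter.1 hp).2
  obtain ⟨a, haM⟩ := Finset.card_pos.1 (show 0 < Mv.card by omega)
  obtain ⟨hao, hane⟩ := Finset.mem_filter.1 haM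
  have hbM : π a ∈ Mv := Finset.mem_filter.2 ⟨hpo a hao, fun e => hane (π.injective e)⟩
  obtain ⟨d, hdM, hd⟩ := Finset.exists_mem_notMem_of_card_lt_card
    (show ({a, π a} : Finset GolayPt).card < Mv.card by
      have := Finset.card_le_two (a := a) (b := π a); omega)
  simp only [Finset.mem_insert, Finset.mem_singleton, not_or] at hd
  obtain ⟨hdo, hdne⟩ := Finset.mem_filter.1 hdM
  have heM : π d ∈ Mv := Finset.mem_filter.2 ⟨hpo d hdo, fun e => hdne (π.injective e)⟩
  obtain ⟨f, hfX⟩ := Finset.card_pos.1 (show 0 < X.card by omega)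
  obtain ⟨hfo, hff⟩ := Finset.mem_filter.1 hfX
  have had : π a ≠ π d := fun e => hd.1 (π.injective e).symm
  have hapd : a ≠ π d := fun e => hd.2 (by rw [e, hππ])
  have hfa : ∀ y ∈ Mv, f ≠ y := fun y hy e => (Finset.mem_filter.1 hy).2 (e ▸ hff)
  have hinj : Function.Injective ![a, π a, d, π d, f] := by
    intro i j e
    fin_cases i <;> fin_cases j <;> simp at e ⊢ <;>
      (try exact hane e) <;> (try exact hane e.symm) <;> (try exact hd.1 e) <;> (try exact hd.1 e.symm) <;>
      (try exact hd.2 e) <;> (try exact hd.2 e.symm) <;> (try exact hdne e) <;> (try exact hdne e.symm) <;>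
      (try exact had e) <;> (try exact had e.symm) <;> (try exact hapd e) <;> (try exact hapd e.symm) <;>
      (try exact hfa _ haM e) <;> (try exact hfa _ haM e.symm) <;> (try exact hfa _ hbM e) <;>
      (try exact hfa _ hbM e.symm) <;> (try exact hfa _ hdM e) <;> (try exact hfa _ hdM e.symm) <;>
      (try exact hfa _ heM e) <;> (try exact hfa _ heM e.symm)
  obtain ⟨ρ, hρ, hρx⟩ := exists_map_base ⟨_, hinj⟩
  have hρo : ρ • oSet = oSet := by
    refine octads_eq_of_five (smul_octad_mem hρ oSet_octad) oSet_octad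
      (s := Finset.univ.image ![a, π a, d, π d, f]) ?_ ?_ ?_
    · rw [Finset.card_image_of_injective _ hinj]; rfl
    · intro y hy
      obtain ⟨j, -, rfl⟩ := Finset.mem_image.1 hy
      exact Finset.mem_smul_finset.2 ⟨bp j.val, bp_mem_baseOctad _ j.isLt, hρx j⟩
    · intro y hy
      obtain ⟨j, -, rfl⟩ := Finset.mem_image.1 hy
      fin_cases j <;> simp [hao, hdo, hfo, hpo a hao, hpo d hdo]
  have hMeq : Mv = {a, π a, d, π d} := by
    refine (Finset.eq_of_subset_of_card_le ?_ ?_).symm
    · intro y hy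
      simp only [Finset.mem_insert, Finset.mem_singleton] at hy
      rcases hy with rfl | rfl | rfl | rfl
      exacts [haM, hbM, hdM, heM]
    · have : ({a, π a, d, π d} : Finset GolayPt).card = 4 := by
        rw [Finset.card_insert_of_notMem, Finset.card_insert_of_notMem, Finset.card_pair (Ne.symm hdne)]
        · simp only [Finset.mem_insert, Finset.mem_singleton, not_or]; exact ⟨Ne.symm hd.2, had⟩
        · simp only [Finset.mem_insert, Finset.mem_singleton, not_or]
          exact ⟨Ne.symm hane, Ne.symm hd.1, hapd⟩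
      omega
  obtain ⟨-, hbpo, hbp0, hbp1, hbp2, hbp3⟩ := pts_bp
  have hρv : ρ none = a ∧ ρ (some 0) = π a ∧ ρ (some 1) = d ∧ ρ (some 2) = π d := by
    refine ⟨?_, ?_, ?_, ?_⟩
    · rw [← hbp0]; exact hρx 0
    · rw [← hbp1]; exact hρx 1
    · rw [← hbp2]; exact hρx 2
    · rw [← hbp3]; exact hρx 3
  obtain ⟨s, hs⟩ : ∃ s : Bool, ∀ p ∈ X, (p ∈ c ↔ s = true) := by
    rcases hX4 h4 with h0 | h0
    · exact ⟨false, fun p hp => iff_of_false (fun hpc =>
        Finset.notMem_empty p (Finset.card_eq_zero.1 h0 ▸ Finset.mem_inter.2 ⟨hp, hpc⟩)) (by simp)⟩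
    · refine ⟨true, fun p hp => iff_of_true ?_ rfl⟩
      have := Finset.eq_of_subset_of_card_le (Finset.inter_subset_left : X ∩ c ⊆ X) (by omega)
      rw [← this] at hp
      exact (Finset.mem_inter.1 hp).2
  set sa : Bool := decide (a ∈ c) with hsa
  set sb : Bool := decide (d ∈ c) with hsb
  have hlocal : ∀ p ∈ oSet, π (ρ p) = ρ (pStd p) ∧ (ρ p ∈ c ↔ sStd sa sb s p = true) := by
    intro p hp
    have hρp : ρ p ∈ oSet := hρo ▸ Finset.smul_mem_smul_finset hp
    by_cases h1 : p = none
    · subst h1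
      exact ⟨by rw [hρv.1]; exact hρv.2.1.symm, by simp [sStd, hρv.1, hsa]⟩
    by_cases h2 : p = some 0
    · subst h2
      exact ⟨by rw [hρv.2.1, hππ]; exact hρv.1.symm, by simp [sStd, hρv.2.1, hsa, hciff]⟩
    by_cases h3 : p = some 1
    · subst h3
      exact ⟨by rw [hρv.2.2.1]; exact hρv.2.2.2.symm, by
        simp [sStd, hρv.2.2.1, hsb, show (1 : ZMod 23) ≠ 0 by decide]⟩
    by_cases h4' : p = some 2
    · subst h4'
      refine ⟨by rw [hρv.2.2.2, hππ]; exact hρv.2.2.1.symm, ?_⟩
      have : (some 2 : GolayPt) ≠ some 0 ∧ (some 2 : GolayPt) ≠ some 1 := by decide +kernel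
      simp [sStd, hρv.2.2.2, hsb, hciff, show (2 : ZMod 23) ≠ 0 by decide, show (2 : ZMod 23) ≠ 1 by decide]
    have hX' : ρ p ∈ X := by
      refine Finset.mem_filter.2 ⟨hρp, by_contra fun hne => ?_⟩
      have hm' : ρ p ∈ Mv := Finset.mem_filter.2 ⟨hρp, hne⟩
      rw [hMeq] at hm'
      simp only [Finset.mem_insert, Finset.mem_singleton] at hm'
      rcases hm' with e | e | e | e
      exacts [h1 (ρ.injective (e.trans hρv.1.symm)), h2 (ρ.injective (e.trans hρv.2.1.symm)),
        h3 (ρ.injective (e.trans hρv.2.2.1.symm)), h4' (ρ.injective (e.trans hρv.2.2.2.symm))]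
    have hst : pStd p = p := by
      unfold pStd
      rw [beq_eq_false_iff_ne.2 h1, beq_eq_false_iff_ne.2 h2, beq_eq_false_iff_ne.2 h3, beq_eq_false_iff_ne.2 h4']
      rfl
    exact ⟨by rw [hst]; exact (Finset.mem_filter.1 hX').2, (hs _ hX').trans (by simp [sStd, h1, h2, h3, h4'])⟩
  set R := monoCo0 ρ hρ ∅ empty_mem_codeSets with hR
  have hRm : R ∈ cEps := by
    refine mem_cEps.2 (co0_ext fun i => Subtype.ext (funext fun p => ?_))
    rw [mul_smul, mul_smul, eps_smul]
    rw [hR, monoCo0_smul, monoCo0_smul]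
    have hiff : ρ.symm p ∈ oSet ↔ p ∈ oSet := by
      conv_rhs => rw [← hρo]
      rw [← Finset.inv_smul_mem_iff]; rfl
    simp only [signedPerm, eps_smul, Finset.notMem_empty, if_false, hiff]
  have hR' : ∀ (v : leechLattice) p, ((R⁻¹ • v : leechLattice) : GolayPt → ℤ) p = (v : GolayPt → ℤ) (ρ p) := by
    intro v p
    have h1 : R • (R⁻¹ • v) = v := smul_inv_smul _ _
    have h2 := congrArg (fun w : leechLattice => (w : GolayPt → ℤ) (ρ p)) h1
    rw [← h2]
    rw [monoCo0_smul]
    simp [signedPerm]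
  obtain ⟨hwc, hw24, hstd⟩ := std_check
  obtain ⟨t, ht⟩ := hstd sa sb s
  have hwmem : mset wMask ∈ codeSets := (mset_mem_supports_iff hw24).2 hwc
  set Wt : Co0 := bif t then sg wMask hwmem else 1 with hWt
  have hWs : ∀ v : leechLattice, ((Wt • v : leechLattice) : GolayPt → ℤ) = wFun t v := by
    intro v
    funext p
    cases t
    · simp [hWt, wFun]
    · rw [hWt, cond_true, sg_smul]
      by_cases hp : p ∈ mset wMask
      · rw [if_pos hp]; simp [wFun, mem_mset.1 hp]
      · rw [if_neg hp]; simp [wFun, Bool.eq_false_iff.2 (mt mem_mset.2 hp)]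
  have hWm : Wt ∈ cEps := by
    refine mem_cEps.2 (co0_ext fun i => Subtype.ext (funext fun p => ?_))
    rw [mul_smul, mul_smul, hWs, eps_smul, hWs]
    simp only [wFun, eps_smul]
    by_cases hp : p ∈ oSet <;> cases t && wMask.testBit (gidx p).val <;> simp [hp]
  set K := xiCo0 * Wt * R⁻¹ with hK
  have hKm : K ∈ cEps := mul_mem (mul_mem xi_mem hWm) (inv_mem hRm)
  have H' := H.conj hKm
  set g' := K * monoCo0 π σ.2 c hc * K⁻¹ with hg'
  have hW2 : Wt * Wt = 1 := co0_ext fun i => Subtype.ext (funext fun p => by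
    rw [mul_smul, hWs, one_smul]
    simp only [wFun, hWs]
    cases t && wMask.testBit (gidx p).val <;> simp)
  have hX2 : xiCo0 * xiCo0 = 1 := co0_ext fun i => Subtype.ext (by
    rw [mul_smul, xiCo0_apply, xiCo0_apply, xiFun_xiFun (e8 i).2, one_smul])
  have hKinv : K⁻¹ = R * (Wt * xiCo0) := by
    rw [hK, mul_inv_rev, mul_inv_rev, inv_inv, inv_eq_of_mul_eq_one_right hW2, inv_eq_of_mul_eq_one_right hX2]
  have hval : ∀ q ∈ oSet, g' • e8 q = e8 q ∨ g' • e8 q = -e8 q := by
    intro q hq
    obtain ⟨hsupp, hval⟩ := ht q hq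
    set v : leechLattice := Wt • (xiCo0 • e8 q) with hv
    have hvv : (v : GolayPt → ℤ) = wFun t (xiFun (Pi.single q 8)) := by
      rw [hv, hWs, xiCo0_apply]; rfl
    have hsupp' : ∀ p, p ∉ oSet → (v : GolayPt → ℤ) p = 0 := fun p hp => by rw [hvv]; exact hsupp p hp
    have hst : ((R⁻¹ • (monoCo0 π σ.2 c hc • (R • v)) : leechLattice) : GolayPt → ℤ) =
        hStd sa sb s v := by
      funext p
      rw [hR', monoCo0_smul]
      have hRv : ∀ r, ((R • v : leechLattice) : GolayPt → ℤ) r = (v : GolayPt → ℤ) (ρ.symm r) := fun r => by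
        rw [hR, monoCo0_smul]
        simp [signedPerm]
      have hsymm : π.symm (ρ p) = π (ρ p) := (Equiv.symm_apply_eq π).2 (hππ _).symm
      simp only [signedPerm, hRv, hsymm, hStd]
      by_cases hp : p ∈ oSet
      · obtain ⟨e1, e2⟩ := hlocal p hp
        rw [if_pos hp, e1, Equiv.symm_apply_apply]
        cases hb : sStd sa sb s p
        · rw [if_neg (fun h => by rw [e2.1 h] at hb; cases hb), cond_false]
        · rw [if_pos (e2.2 hb), cond_true]
      · rw [if_neg hp]
        have hn : ρ.symm (π (ρ p)) ∉ oSet := fun h => hp (by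
          have h1 : π (ρ p) ∈ oSet := by
            have := hρo ▸ Finset.smul_mem_smul_finset (a := ρ) h
            simpa using this
          have h2 := hpo _ h1
          rw [hππ] at h2
          rw [← hρo] at h2
          exact (Finset.smul_mem_smul_finset_iff ρ).1 h2)
        rw [hsupp' _ hn]
        simp
    have hcomp : ((g' • e8 q : leechLattice) : GolayPt → ℤ) =
        xiFun (wFun t (hStd sa sb s (wFun t (xiFun (Pi.single q 8))))) := by
      rw [hg', hKinv, hK]
      simp only [mul_smul]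
      rw [xiCo0_apply, hWs, ← hv, hst, hvv]
    rcases hval with e | e
    · exact Or.inl (Subtype.ext (hcomp.trans (funext e)))
    · refine Or.inr (Subtype.ext (hcomp.trans (funext fun p => ?_)))
      rw [e p]; rfl
  have hcr' : g' ∈ crossStab := by
    rw [mem_crossStab_iff_top]
    rcases hval none none_mem with e | e
    · rw [show g' • top = top from e]; exact e8_mem_stdCross none
    · rw [show g' • top = -top from e]
      exact ⟨none, -8, Or.inr rfl, by rw [AddSubgroup.coe_neg, Pi.single_neg]; rfl⟩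
  obtain ⟨τ, d', hd', hg''⟩ := crossStab_monomial ⟨g', hcr'⟩
  have hgm' : g' = monoCo0 τ.1 τ.2 d' hd' :=
    co0_ext fun i => Subtype.ext (by rw [monoCo0_smul]; exact hg'' (e8 i))
  have hfix : ∀ p ∈ oSet, τ.1 p = p := by
    intro p hp
    by_contra hne
    have h8 := hg'' (e8 p)
    rw [show ((e8 p : leechLattice) : GolayPt → ℤ) = Pi.single p 8 from rfl, signedPerm_single] at h8
    have h9 := congrFun h8 (τ.1 p)
    rw [Pi.single_eq_same] at h9
    rcases hval p hp with e | e <;>
      (rw [e] at h9; simp [e8, Pi.single_eq_of_ne hne] at h9; split at h9 <;> omega)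
  obtain ⟨k, hk, hke⟩ := diag_conj τ.2 hd' (hgm' ▸ H') hfix
  refine ⟨k * kap K, hk.mul_left ((show Commute K eps from mem_cEps.1 hKm).map kap), ?_⟩
  have e2 : kap g' = kap K * kap (monoCo0 π σ.2 c hc) * (kap K)⁻¹ := by
    rw [hg', map_mul, map_mul, map_inv]
  rw [← hke, show kq τ.1 τ.2 d' hd' = kap g' by rw [hgm']; rfl, e2]
  group
  rfl

end Cfsg.Lib.CoOneUniq
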