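import Cfsg.Agent.Lib.Extra.CoOneUniq.Classes.IsoTab

/-!
# An isolated octad for a pure elementary group through the dodecad element

Such a group commuting with the octad element is monomial; moved to one of twenty-two representatives
it is generated by the representative, the dodecad element and at most one more element, and the
tables give the octad.
-/

set_option autoImplicit false
set_option maxRecDepth 100000

namespace Cfsg.Lib.CoOneUniq

open Cfsg Cfsg.Lib.Concrete Cfsg.Lib.CoOne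
open scoped Pointwise symmDiff

/-- The group considered. -/
structure IsoHyp (F : Subgroup Spor.Co1) : Prop where
  sq : ∀ f ∈ F, f * f = 1
  notZ : ∀ f ∈ F, ¬ CZ f
  dmem : dEl ∈ F
  zcomm : ∀ f ∈ F, Commute f zEl

/-- The conclusion. -/
def Isolated (F : Subgroup Spor.Co1) : Prop :=
  ∃ z, CZ z ∧ (∀ f ∈ F, Commute f z) ∧ ∀ f ∈ F, f ≠ 1 → ¬ CZ (z * f)

theorem IsoHyp.comm {F : Subgroup Spor.Co1} (H : IsoHyp F) {x y : Spor.Co1} (hx : x ∈ F) (hy : y ∈ F) :
    Commute x y := by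
  show x * y = y * x
  calc x * y = (x * y)⁻¹ := (inv_eq_of_mul_eq_one_right (H.sq _ (mul_mem hx hy))).symm
    _ = y * x := by
      rw [mul_inv_rev, inv_eq_of_mul_eq_one_right (H.sq x hx), inv_eq_of_mul_eq_one_right (H.sq y hy)]

theorem isolated_conj {F : Subgroup Spor.Co1} (k : Spor.Co1)
    (h : Isolated (F.map (MulAut.conj k).toMonoidHom)) : Isolated F := by
  obtain ⟨z, hz, hc, hi⟩ := h
  have hm : ∀ f ∈ F, k * f * k⁻¹ ∈ F.map (MulAut.conj k).toMonoidHom := fun f hf => ⟨f, hf, rfl⟩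
  refine ⟨k⁻¹ * z * k, by simpa using CZ_conj k⁻¹ z hz, fun f hf => ?_, fun f hf h1 hzf => ?_⟩
  · have := (Commute.conj_iff k⁻¹).2 (hc _ (hm f hf))
    rw [inv_inv, show k⁻¹ * (k * f * k⁻¹) * k = f by group] at this
    exact this
  · refine hi _ (hm f hf) (fun e => h1 (conj_eq_one_iff.1 e)) ?_
    have := CZ_conj k _ hzf
    rwa [show k * (k⁻¹ * z * k * f) * k⁻¹ = z * (k * f * k⁻¹) by group] at this

theorem IsoHyp.conj {F : Subgroup Spor.Co1} (H : IsoHyp F) {k : Spor.Co1} (hz : Commute k zEl)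
    (hd : Commute k dEl) : IsoHyp (F.map (MulAut.conj k).toMonoidHom) where
  sq := by
    rintro _ ⟨f, hf, rfl⟩
    rw [← map_mul, H.sq f hf, map_one]
  notZ := by
    rintro _ ⟨f, hf, rfl⟩ h
    refine H.notZ f hf ?_
    have := CZ_conj k⁻¹ _ h
    simpa [mul_assoc] using this
  dmem := ⟨dEl, H.dmem, by simp [hd.eq]⟩
  zcomm := by
    rintro _ ⟨f, hf, rfl⟩
    exact (hz.mul_left (H.zcomm f hf)).mul_left hz.inv_left

theorem mem_list_range {L : List ℕ} {p : ℕ} (h : p ∈ L) : ∃ i < L.length, L.getD i 0 = p := by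
  obtain ⟨i, hi, rfl⟩ := List.getElem_of_mem h
  exact ⟨i, hi, List.getD_eq_getElem _ _ hi⟩

/-- A monomial involution fixing the octad and the dodecad is in the list. -/
theorem pk_mem_list {σ : Equiv.Perm GolayPt} (hσ : σ ∈ M24) (h2 : σ * σ = 1) (hO : σ • oSet = oSet)
    (hD : σ • mset dMask = mset dMask) : ∃ i < 76, invList.getD i 0 = pk σ := by
  have key : ∀ k ≤ 7, ∃ r : Equiv.Perm GolayPt, pk r ∈ stList k ∧ r⁻¹ * σ ∈ fixB k := by
    intro k
    induction k with
    | zero =>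
      refine fun _ => ⟨1, by rw [pk_one]; exact List.mem_cons_self, ?_⟩
      rw [fixB_zero, inv_one, one_mul]; exact hσ
    | succ k ih =>
      intro hk
      obtain ⟨r, hr, hrs⟩ := ih (by omega)
      obtain ⟨e, he, s, hs, hfix⟩ := fixB_step_decomp (by omega) hrs
      refine ⟨r * s, ?_, by rw [mul_inv_rev, mul_assoc]; exact hfix⟩
      have hq : pcF (pk r) (m24Perms.getD e.2 0) = pk (r * s) := by
        rw [pcF_eq, pk_mul]
        unfold pcomp
        refine congrArg packList (List.map_congr_left fun j hj => ?_)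
        have ej : (gidx (gpt (Fin.ofNat 24 j))).val = j := by
          rw [gidx_gpt]; exact Nat.mod_eq_of_lt (mem_bits24.1 hj)
        have h1 := hs (gpt (Fin.ofNat 24 j))
        have h2 := rep_pk s (gpt (Fin.ofNat 24 j))
        rw [ej] at h1 h2
        rw [← h1, ← h2]
      show pk (r * s) ∈ stLevel k (stList k)
      refine List.mem_flatMap.2 ⟨pk r, hr, List.mem_filter.2 ⟨List.mem_map.2 ⟨e, he, hq⟩, ?_⟩⟩
      have himg : pget (pk (r * s)) (m24Base.getD k 0) = (gidx (σ (bp k))).val := by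
        have hb : σ (bp k) = (r * s) (bp k) := by
          have h1 := hfix.2 k (Nat.lt_succ_self k)
          rw [Equiv.Perm.mul_apply, Equiv.Perm.mul_apply] at h1
          have h2 := congrArg (fun p => r (s p)) h1
          simp only [Equiv.Perm.inv_def, Equiv.apply_symm_apply] at h2
          exact h2
        rw [hb, rep_pk (r * s) (bp k), bp, gidx_gpt, Fin.val_ofNat, Nat.mod_eq_of_lt (base_lt k (by omega))]
      have hbit : ∀ m, σ • mset m = mset m →
          m.testBit (gidx (σ (bp k))).val = m.testBit (m24Base.getD k 0) := by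
        intro m hm
        have hbk : (gidx (bp k)).val = m24Base.getD k 0 := by
          rw [bp, gidx_gpt, Fin.val_ofNat, Nat.mod_eq_of_lt (base_lt k (by omega))]
        rw [← hbk, Bool.eq_iff_iff, ← mem_mset, ← mem_mset]
        conv_lhs => rw [← hm]
        exact Finset.smul_mem_smul_finset_iff σ
      rw [himg, hbit _ hO, hbit _ hD, beq_self_eq_true, beq_self_eq_true]
      rfl
  obtain ⟨r, hr, hrs⟩ := key 7 le_rfl
  rw [fixB_seven, Subgroup.mem_bot, inv_mul_eq_one] at hrs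
  subst hrs
  have h := List.all_eq_true.1 st_check _ hr
  rw [pcF_eq, ← pk_mul, h2, pk_one] at h
  simp only [Nat.beq_refl, Bool.not_true, Bool.false_or] at h
  have hpO : pimg (pk r) m24BaseOctad = m24BaseOctad :=
    mset_inj (pimg_lt (rep_pk r) _) (by norm_num [m24BaseOctad]) (((rep_pk r).smul_mset _).symm.trans hO)
  have hpD : pimg (pk r) dMask = dMask :=
    mset_inj (pimg_lt (rep_pk r) _) dMask_facts.2.1 (((rep_pk r).smul_mset _).symm.trans hD)
  rw [hpO, hpD] at h
  simp only [Nat.beq_refl, Bool.not_true, Bool.false_or, List.any_eq_true, Nat.beq_eq] at h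
  obtain ⟨p, hp, hpe⟩ := h
  obtain ⟨i, hi, hip⟩ := mem_list_range hp
  exact ⟨i, by rw [← inv_check.2.1]; exact hi, by rw [hip, hpe]⟩

/-- Every element of the group is tabulated. -/
theorem IsoHyp.enc {F : Subgroup Spor.Co1} (H : IsoHyp F) {f : Spor.Co1} (hf : f ∈ F) : ∃ a, EncI f a := by
  obtain ⟨σ, hσ, c, hc, rfl, hO, hD⟩ := exists_mono_of_commute (H.zcomm f hf) (H.comm hf H.dmem)
  obtain ⟨m, hm, rfl, henc⟩ := exists_enc hσ hc
  have hsq := Enc.unique (henc.mul henc) (H.sq _ hf ▸ enc_one)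
  have h1 := congrArg Prod.fst hsq
  simp only [emul, ← pk_mul, ← pk_one] at h1
  obtain ⟨i, hi, hip⟩ := pk_mem_list hσ (pk_inj h1) hO hD
  obtain ⟨_, _, hc', _, _, hlt, _⟩ := id henc
  obtain ⟨k, hk, hke⟩ := mem_supports_iff.1 hc'
  obtain ⟨c', hc'lt, rfl⟩ := List.mem_map.1 (codeList_eq ▸ hk)
  rw [List.mem_range] at hc'lt
  have e : combo c' = nrm m := mset_inj (combo_lt hc'lt) hlt hke
  refine ⟨(i, c'), hi, hc'lt, ?_⟩
  show Enc _ (invList.getD i 0, cmb c')
  rw [hip, cmb_eq hc'lt, e]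
  exact henc

/-- The properties of the elements of the group other than the two trivial ones. -/
structure Nice (x : Spor.Co1) : Prop where
  sq : x * x = 1
  dcomm : Commute x dEl
  notZ : ¬ CZ x
  notZd : ¬ CZ (x * dEl)
  ne_one : x ≠ 1
  ne_d : x ≠ dEl

theorem Nice.conj {x k : Spor.Co1} (hx : Nice x) (hd : Commute k dEl) : Nice (k * x * k⁻¹) where
  sq := by rw [show k * x * k⁻¹ * (k * x * k⁻¹) = k * (x * x) * k⁻¹ by group, hx.sq]; group
  dcomm := (hd.mul_left hx.dcomm).mul_left hd.inv_left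
  notZ h := hx.notZ (by simpa [mul_assoc] using CZ_conj k⁻¹ _ h)
  notZd h := by
    refine hx.notZd ?_
    have := CZ_conj k⁻¹ _ h
    rw [inv_inv] at this
    rwa [show k⁻¹ * (k * x * k⁻¹ * dEl) * k = x * k⁻¹ * (dEl * k) by group, ← hd.eq, ← mul_assoc,
      inv_mul_cancel_right] at this
  ne_one h := hx.ne_one (conj_eq_one_iff.1 h)
  ne_d h := hx.ne_d (by
    rw [mul_inv_eq_iff_eq_mul, ← hd.eq] at h
    exact mul_left_cancel h)

theorem dEl_mulI {i : ℕ} (hi : i < 76) : mulI i invId ≠ 127 := by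
  intro e
  have h := (mulI_spec hi inv_check.2.2.2).1.1 e
  obtain ⟨σ, -, hs, -⟩ := exists_invPerm hi
  rw [inv_check.2.2.1, ← hs, ← pk_one, ← pk_mul, ← pk_mul, mul_one, one_mul] at h
  exact h rfl

theorem Nice.good_enc {x : Spor.Co1} {a : ℕ × ℕ} (hx : Nice x) (ha : EncI x a) : good a = true := by
  have hd : mulI a.1 dP.1 ≠ 127 := dEl_mulI ha.1
  have hxd := ha.mul dP_enc hd
  have hdd : x * dEl * (x * dEl) = 1 := by
    rw [hx.dcomm.symm.mul_mul_mul_comm, hx.sq, sq_one_of_class (Or.inr CW_dEl), one_mul]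
  simp only [good, Bool.and_eq_true, Bool.not_eq_true', ← Bool.not_eq_true, Nat.beq_eq, eqE_iff]
  exact ⟨⟨⟨⟨ha.cn_act hx.sq, fun h => hx.notZ ((ha.zI_iff hx.sq).2 h)⟩,
    fun h => hx.notZd ((hxd.zI_iff hdd).2 h)⟩, fun h => hx.ne_one (EncI.eq (h ▸ ha) oneP_enc)⟩,
    fun h => hx.ne_d (EncI.eq (h ▸ ha) dP_enc)⟩

/-- An involution of the list as an element. -/
theorem exists_alpha {a : ℕ} (ha : a < 76) : ∃ K : Spor.Co1, K * K = 1 ∧ Commute K zEl ∧ Commute K dEl ∧
    ∀ (x : Spor.Co1) (p c : ℕ), c < 4096 → Enc x (p, cmb c) → cn c = c →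
      Enc (K * x * K⁻¹) (pcomp (invList.getD a 0) (pcomp p (invList.getD a 0)), cmb (cn (actI a c))) := by
  obtain ⟨σ, hσ, hpk, -, hO, hD, h2⟩ := exists_invPerm ha
  have hK : Enc (kq σ hσ ∅ empty_mem_codeSets) (invList.getD a 0, 0) := by
    have h := enc_kq hσ (show 0 < 2 ^ 24 by norm_num) (by rw [mset_zero]; exact empty_mem_codeSets)
    rw [hpk, show nrm 0 = 0 by decide +kernel] at h
    rwa [kq_congr (d := mset 0) hσ hσ empty_mem_codeSets _ rfl mset_zero.symm]
  have hKK : kq σ hσ ∅ empty_mem_codeSets * kq σ hσ ∅ empty_mem_codeSets = 1 := by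
    rw [kq_mul, kq_congr (d := ∅) _ (one_mem _) _ empty_mem_codeSets h2
      (by rw [← Finset.bot_eq_empty, bot_symmDiff, Finset.bot_eq_empty, Finset.smul_finset_empty]), kq_one_empty]
  refine ⟨_, hKK, kq_empty_mem hσ hO, ?_, fun x p c hc hx hcn => ?_⟩
  · rw [dEl, commute_iff_eq, kq_mul, kq_mul]
    refine kq_congr _ _ _ _ (by rw [mul_one, one_mul]) ?_
    rw [hD, one_smul, ← Finset.bot_eq_empty, bot_symmDiff, symmDiff_bot]
  · rw [inv_eq_of_mul_eq_one_right hKK, mul_assoc]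
    have h := hK.mul (hx.mul hK)
    have e1 : nrm (cmb c ^^^ pimg p 0) = cmb c := by
      rw [pimg_zero, Nat.xor_zero, ← (cn_spec hc).2.1, hcn]
    have e2 : nrm (0 ^^^ pimg (invList.getD a 0) (cmb c)) = cmb (cn (actI a c)) := by
      rw [Nat.zero_xor, ← actI_spec ha hc, (cn_spec (actI_lt a c)).2.1]
    simp only [emul, e1, e2] at h
    exact h

theorem pair_move {a b i c : ℕ} (ha : a < 76) (hb : b < 76) (hi : i < 76) (hc : c < 4096) (hcn : cn c = c)
    {x : Spor.Co1} (hx : Enc x (invList.getD i 0, cmb c)) :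
    ∃ k : Spor.Co1, Commute k zEl ∧ Commute k dEl ∧
      Enc (k * x * k⁻¹) (pcomp (invList.getD a 0)
        (pcomp (pcomp (invList.getD b 0) (pcomp (invList.getD i 0) (invList.getD b 0))) (invList.getD a 0)),
          cmb (cn (actI a (cn (actI b c))))) ∧
      ∀ y : Spor.Co1, (∃ p, Enc y (pId, p)) → ∀ q, Enc (k * y * k⁻¹) q → q.1 = pId := by
  obtain ⟨K, hK2, hKz, hKd, hK⟩ := exists_alpha ha
  obtain ⟨L, hL2, hLz, hLd, hL⟩ := exists_alpha hb
  refine ⟨K * L, hKz.mul_left hLz, hKd.mul_left hLd, ?_, ?_⟩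
  · have h := hK _ _ _ (cn_spec (actI_lt b c)).1 (hL x _ c hc hx hcn) (by
      refine cmb_inj (cn_spec (cn_spec (actI_lt b c)).1).1 (cn_spec (actI_lt b c)).1 ?_
      rw [(cn_spec (cn_spec (actI_lt b c)).1).2.1, nrm, (cn_spec (actI_lt b c)).2.2]
      rfl)
    rwa [show K * (L * x * L⁻¹) * K⁻¹ = K * L * x * (K * L)⁻¹ by group] at h
  · rintro y ⟨m, hy⟩ q hq
    obtain ⟨σ, hσ, hc', rfl, hσ1, -, -⟩ := id hy
    obtain ⟨τ, -, ht, -, -, -, ht2⟩ := exists_invPerm ha
    obtain ⟨ρ, -, hr, -, -, -, hr2⟩ := exists_invPerm hb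
    obtain ⟨c', hc'lt, e⟩ : ∃ c' < 4096, combo c' = m := by
      obtain ⟨k, hk, hke⟩ := mem_supports_iff.1 hc'
      obtain ⟨c', hlt, rfl⟩ := List.mem_map.1 (codeList_eq ▸ hk)
      obtain ⟨_, _, _, _, _, hm, _⟩ := id hy
      exact ⟨c', List.mem_range.1 hlt, mset_inj (combo_lt (List.mem_range.1 hlt)) hm hke⟩
    rw [← cmb_eq hc'lt] at e
    subst e
    have hcn' : cn c' = c' := by
      obtain ⟨_, _, _, _, _, _, h3⟩ := id hy
      refine cmb_inj (cn_spec hc'lt).1 hc'lt ?_
      rw [(cn_spec hc'lt).2.1, nrm, h3]; rfl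
    have h := hK _ _ _ (cn_spec (actI_lt b c')).1 (hL _ _ c' hc'lt hy hcn') (by
      refine cmb_inj (cn_spec (cn_spec (actI_lt b c')).1).1 (cn_spec (actI_lt b c')).1 ?_
      rw [(cn_spec (cn_spec (actI_lt b c')).1).2.1, nrm, (cn_spec (actI_lt b c')).2.2]
      rfl)
    rw [show ∀ w, K * (L * w * L⁻¹) * K⁻¹ = K * L * w * (K * L)⁻¹ from fun w => by group] at h
    rw [← Enc.unique h hq]
    simp only [← ht, ← hr, ← pk_one, ← pk_mul]
    rw [one_mul, hr2, one_mul, ht2]

theorem rep_chk {i : ℕ} (h : i < 22) : repChk i = true := by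
  interval_cases i
  exacts [rep_check_0, rep_check_1, rep_check_2, rep_check_3, rep_check_4, rep_check_5, rep_check_6,
    rep_check_7, rep_check_8, rep_check_9, rep_check_10, rep_check_11, rep_check_12, rep_check_13,
    rep_check_14, rep_check_15, rep_check_16, rep_check_17, rep_check_18, rep_check_19, rep_check_20,
    rep_check_21]

theorem badPairs_spec {r : ℕ × ℕ} : ∀ {l : List ((ℕ × ℕ) × ℕ)}, badPairs r l = true →
    ∀ (i j : ℕ), i < j → ∀ hj : j < l.length, badPair r (l.getD i (oneP, 0)).1 (l.getD j (oneP, 0)).1 = true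
  | [], _, _, _, _, hj => absurd hj (Nat.not_lt_zero _)
  | e :: l, h, i, j + 1, hij, hj => by
    simp only [badPairs, Bool.and_eq_true, List.all_eq_true] at h
    have hj' : j < l.length := Nat.lt_of_succ_lt_succ hj
    cases i with
    | zero =>
      rw [List.getD_cons_zero, List.getD_cons_succ, List.getD_eq_getElem _ _ hj']
      exact h.1 _ (List.getElem_mem hj')
    | succ i => simpa using badPairs_spec h.2 i j (by omega) hj'

theorem cand_mem {g : Spor.Co1} {a : ℕ × ℕ} (hg : Nice g) (ha : EncI g a) : a ∈ candsOf a.1 := by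
  have hgood := hg.good_enc ha
  unfold candsOf
  by_cases e : a.1 = invId
  · rw [e, Nat.beq_refl, cond_true]
    have h := beq_all diag_check.1 ha.2.1
    rw [ha.cn_self, Nat.beq_refl, ← e, show (a.1, a.2) = a from rfl, hgood] at h
    simp only [Bool.not_true, Bool.false_or, List.any_eq_true, Nat.beq_eq] at h
    obtain ⟨t, ht, hte⟩ := h
    exact List.mem_map.2 ⟨t, ht, Prod.ext e.symm hte⟩
  · rw [nbeq_false e, cond_false]
    have hs := beq_all sig_check ha.1
    simp only [nbeq_false e, Bool.false_or, Bool.and_eq_true, decide_eq_true_eq, Nat.beq_eq, pcF_eq] at hs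
    set t := sigTab.getD a.1 (0, 0, 0) with ht
    obtain ⟨⟨⟨hA, hB⟩, hj⟩, hp⟩ := hs
    obtain ⟨K, hK2, hKz, hKd, hK⟩ := exists_alpha hA
    obtain ⟨L, hL2, hLz, hLd, hL⟩ := exists_alpha hB
    have h1 := hL g _ _ ha.2.1 ha.2.2 ha.cn_self
    have hcn1 : cn (cn (actI t.2.1 a.2)) = cn (actI t.2.1 a.2) := by
      refine cmb_inj (cn_spec (cn_spec (actI_lt _ _)).1).1 (cn_spec (actI_lt _ _)).1 ?_
      rw [(cn_spec (cn_spec (actI_lt _ _)).1).2.1, nrm, (cn_spec (actI_lt _ _)).2.2]; rfl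
    have h2 := hK _ _ _ (cn_spec (actI_lt _ _)).1 h1 hcn1
    rw [hp] at h2
    set c2 := cn (actI t.1 (cn (actI t.2.1 a.2))) with hc2
    have hc2lt : c2 < 4096 := (cn_spec (actI_lt _ _)).1
    have hc := beq_all code_check hj
    simp only [Bool.and_eq_true, decide_eq_true_eq] at hc
    obtain ⟨⟨⟨hall, hs76⟩, -⟩, -⟩ := hc
    have hy : EncI (K * (L * g * L⁻¹) * K⁻¹) (sRep.getD t.2.2 0, c2) := ⟨hs76, hc2lt, h2⟩
    have hyN : Nice (K * (L * g * L⁻¹) * K⁻¹) := (hg.conj hLd).conj hKd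
    have h3 := beq_all hall hc2lt
    rw [hy.cn_self, Nat.beq_refl, hyN.good_enc hy] at h3
    simp only [Bool.not_true, Bool.false_or, List.any_eq_true, Nat.beq_eq] at h3
    obtain ⟨u, hu, hue⟩ := h3
    refine List.mem_map.2 ⟨u, hu, ?_⟩
    rw [hue]
    have h4 := hK _ _ _ hc2lt h2 hy.cn_self
    have hcn2 : cn (cn (actI t.1 c2)) = cn (actI t.1 c2) := by
      refine cmb_inj (cn_spec (cn_spec (actI_lt _ _)).1).1 (cn_spec (actI_lt _ _)).1 ?_
      rw [(cn_spec (cn_spec (actI_lt _ _)).1).2.1, nrm, (cn_spec (actI_lt _ _)).2.2]; rfl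
    have h5 := hL _ _ _ (cn_spec (actI_lt _ _)).1 h4 hcn2
    have hback : L * (K * (K * (L * g * L⁻¹) * K⁻¹) * K⁻¹) * L⁻¹ = g := by
      rw [inv_eq_of_mul_eq_one_right hK2, inv_eq_of_mul_eq_one_right hL2,
        show L * (K * (K * (L * g * L) * K) * K) * L = L * (K * K) * L * g * (L * (K * K) * L) by group,
        hK2, mul_one, hL2, one_mul, mul_one]
    rw [hback] at h5
    have h6 := congrArg Prod.snd (Enc.unique ha.2.2 h5)
    exact Prod.ext rfl (cmb_inj ha.2.1 (cn_spec (actI_lt _ _)).1 h6).symm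

theorem IsoHyp.nice {F : Subgroup Spor.Co1} (H : IsoHyp F) {f : Spor.Co1} (hf : f ∈ F) (h1 : f ≠ 1)
    (hd : f ≠ dEl) : Nice f :=
  ⟨H.sq f hf, H.comm hf H.dmem, H.notZ f hf, H.notZ _ (mul_mem hf H.dmem), h1, hd⟩

/-- The group contains a representative. -/
theorem IsoHyp.of_rep {F : Subgroup Spor.Co1} (H : IsoHyp F) {r : Spor.Co1} {i : ℕ} (hi : i < 22)
    (hrF : r ∈ F) (hr : EncI r (repList.getD i oneP))
    (hdiag : (repList.getD i oneP).1 = invId → ∀ f ∈ F, ∀ a, EncI f a → a.1 = invId) : Isolated F := by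
  have hc := rep_chk hi
  simp only [repChk, Bool.and_eq_true] at hc
  obtain ⟨⟨⟨⟨hne, hfull⟩, hidx⟩, hnb⟩, hbad⟩ := hc
  set rp := repList.getD i oneP with hrp
  set nb := nbTab.getD i [] with hnbdef
  have hnbD : ∀ k < nb.length, (nb.getD k (oneP, 0)) ∈ nb := fun k hk => by
    rw [List.getD_eq_getElem _ _ hk]; exact List.getElem_mem hk
  have hx3 := List.all_eq_true.1 (beq_all extra_check.2.2.1 hi)
  have hexists : ∀ k < nb.length, ∃ E, EncI E (nb.getD k (oneP, 0)).1 := fun k hk => by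
    have h1 := List.all_eq_true.1 hnb _ (hnbD k hk)
    have h2 := hx3 _ (hnbD k hk)
    simp only [Bool.and_eq_true, decide_eq_true_eq, Nat.beq_eq] at h1 h2
    exact exists_encI h1.1.1.1.1.1 h1.1.1.1.1.2 h2.1.1
  have hcosetenc : ∀ k < nb.length, ∀ E, EncI E (nb.getD k (oneP, 0)).1 →
      EncI (E * dEl) (emI (nb.getD k (oneP, 0)).1 dP) ∧ EncI (r * E) (emI rp (nb.getD k (oneP, 0)).1) ∧
        EncI (r * E * dEl) (emI (emI rp (nb.getD k (oneP, 0)).1) dP) := fun k hk E hE => by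
    have h2 := hx3 _ (hnbD k hk)
    simp only [comI, Bool.and_eq_true, Bool.not_eq_true', ← Bool.not_eq_true, Nat.beq_eq] at h2
    have hrE := hr.mul hE h2.1.2.1
    exact ⟨hE.mul dP_enc h2.2.1, hrE, hrE.mul dP_enc (dEl_mulI hrE.1)⟩
  have hlocate : ∀ g ∈ F, g ≠ 1 → g ≠ dEl → g ≠ r → g ≠ r * dEl →
      ∃ k < nb.length, ∃ E ∈ F, EncI E (nb.getD k (oneP, 0)).1 ∧
        (g = E ∨ g = E * dEl ∨ g = r * E ∨ g = r * E * dEl) := by
    intro g hg g1 g2 g3 g4
    obtain ⟨a, ha⟩ := H.enc hg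
    have hcom := H.comm hrF hg
    have hmul : mulI rp.1 a.1 ≠ 127 := by
      have h := (hr.commute ha).1 hcom
      simp only [comI, Bool.and_eq_true, Bool.not_eq_true', ← Bool.not_eq_true, Nat.beq_eq] at h
      exact h.1
    have hrg := hr.mul ha hmul
    have hrd := hr.mul dP_enc (dEl_mulI hr.1)
    have hmem : a ∈ ((sigOf rp).flatMap candsOf).filter (nbrI rp) := by
      refine List.mem_filter.2 ⟨List.mem_flatMap.2 ⟨a.1, ?_, cand_mem (H.nice hg g1 g2) ha⟩, ?_⟩
      · unfold sigOf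
        by_cases e : rp.1 = invId
        · rw [e, Nat.beq_refl, cond_true, hdiag e g hg a ha]
          exact List.mem_cons_self
        · rw [nbeq_false e, cond_false]
          refine List.mem_filter.2 ⟨List.mem_range.2 ha.1, ?_⟩
          rw [nbeq_false hmul]; rfl
      · simp only [nbrI, Bool.and_eq_true, Bool.not_eq_true', ← Bool.not_eq_true, eqE_iff]
        refine ⟨⟨⟨⟨(hr.commute ha).1 hcom, fun h => H.notZ _ (mul_mem hrF hg)
          ((hrg.zI_iff (H.sq _ (mul_mem hrF hg))).2 h)⟩, ?_⟩, fun h => g3 (EncI.eq (h ▸ ha) hr)⟩,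
          fun h => g4 (EncI.eq (h ▸ ha) hrd)⟩
        intro h
        have hm := mul_mem (mul_mem hrF hg) H.dmem
        exact H.notZ _ hm (((hrg.mul dP_enc (dEl_mulI hrg.1)).zI_iff (H.sq _ hm)).2 h)
    rw [eqL_iff hfull] at hmem
    obtain ⟨t, ht, rfl⟩ := List.mem_map.1 hmem
    have h := List.all_eq_true.1 hidx t ht
    simp only [Bool.and_eq_true, decide_eq_true_eq, List.any_eq_true, eqE_iff] at h
    obtain ⟨⟨y, hy, rfl⟩, hk⟩ := h
    obtain ⟨E, hE⟩ := hexists t.2 hk
    obtain ⟨c1, c2, c3⟩ := hcosetenc t.2 hk E hE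
    simp only [coset, List.mem_cons, List.not_mem_nil, or_false] at hy
    have hcases : g = E ∨ g = E * dEl ∨ g = r * E ∨ g = r * E * dEl := by
      rcases hy with e | e | e | e <;> rw [e] at ha
      exacts [Or.inl (ha.eq hE), Or.inr (Or.inl (ha.eq c1)), Or.inr (Or.inr (Or.inl (ha.eq c2))),
        Or.inr (Or.inr (Or.inr (ha.eq c3)))]
    refine ⟨t.2, hk, E, ?_, hE, hcases⟩
    rcases hcases with e | e | e | e
    · rw [← e]; exact hg
    · rw [eq_mul_inv_of_mul_eq e.symm]; exact mul_mem hg (inv_mem H.dmem)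
    · rw [eq_inv_mul_of_mul_eq e.symm]; exact mul_mem (inv_mem hrF) hg
    · rw [eq_inv_mul_of_mul_eq (eq_mul_inv_of_mul_eq e.symm)]
      exact mul_mem (inv_mem hrF) (mul_mem hg (inv_mem H.dmem))
  have hnone : ∀ k k', k < k' → k' < nb.length → ∀ E ∈ F, ∀ E' ∈ F, EncI E (nb.getD k (oneP, 0)).1 →
      EncI E' (nb.getD k' (oneP, 0)).1 → False := by
    intro k k' hkk hk' E hEF E' hE'F hE hE'
    have h := badPairs_spec hbad k k' hkk hk'
    have hcom := (hE.commute hE').1 (H.comm hEF hE'F)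
    have hm : ∀ {x : Spor.Co1} {a : ℕ × ℕ}, x ∈ F → EncI x a → ¬ zI a = true := fun hx ha h =>
      H.notZ _ hx ((ha.zI_iff (H.sq _ hx)).2 h)
    have hm127 : mulI (nb.getD k (oneP, 0)).1.1 (nb.getD k' (oneP, 0)).1.1 ≠ 127 := by
      intro e
      rw [comI, e, Nat.beq_refl] at hcom
      simp at hcom
    have hee := hE.mul hE' hm127
    have hF2 := mul_mem hEF hE'F
    have hrm : mulI rp.1 (emI (nb.getD k (oneP, 0)).1 (nb.getD k' (oneP, 0)).1).1 ≠ 127 := by
      intro e
      have h := (hr.commute hee).1 (H.comm hrF hF2)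
      rw [comI, e, Nat.beq_refl] at h
      simp at h
    have hree := hr.mul hee hrm
    simp only [badPair, hcom, Bool.not_true, Bool.false_or, Bool.or_eq_true] at h
    rcases h with ((h | h) | h) | h
    · exact hm hF2 hee h
    · exact hm (mul_mem hF2 H.dmem) (hee.mul dP_enc (dEl_mulI hee.1)) h
    · exact hm (mul_mem hrF hF2) hree h
    · exact hm (mul_mem (mul_mem hrF hF2) H.dmem) (hree.mul dP_enc (dEl_mulI hree.1)) h
  obtain ⟨k, hk, hin⟩ : ∃ k < nb.length, ∀ g ∈ F, g = 1 ∨ g = dEl ∨ g = r ∨ g = r * dEl ∨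
      ∃ E, EncI E (nb.getD k (oneP, 0)).1 ∧ (g = E ∨ g = E * dEl ∨ g = r * E ∨ g = r * E * dEl) := by
    by_cases hs : ∃ g ∈ F, g ≠ 1 ∧ g ≠ dEl ∧ g ≠ r ∧ g ≠ r * dEl
    · obtain ⟨g, hg, g1, g2, g3, g4⟩ := hs
      obtain ⟨k, hk, E, hEF, hE, -⟩ := hlocate g hg g1 g2 g3 g4
      refine ⟨k, hk, fun x hx => ?_⟩
      by_cases x1 : x = 1; · exact Or.inl x1
      by_cases x2 : x = dEl; · exact Or.inr (Or.inl x2)
      by_cases x3 : x = r; · exact Or.inr (Or.inr (Or.inl x3))
      by_cases x4 : x = r * dEl; · exact Or.inr (Or.inr (Or.inr (Or.inl x4)))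
      obtain ⟨k', hk', E', hE'F, hE', hc'⟩ := hlocate x hx x1 x2 x3 x4
      rcases lt_trichotomy k k' with h | h | h
      · exact absurd (hnone k k' h hk' E hEF E' hE'F hE hE') id
      · exact Or.inr (Or.inr (Or.inr (Or.inr ⟨E', h ▸ hE', hc'⟩)))
      · exact absurd (hnone k' k h hk E' hE'F E hEF hE' hE) id
    · push Not at hs
      refine ⟨0, List.length_pos_iff.2 (by rintro e; rw [e] at hne; simp at hne), fun x hx => ?_⟩
      by_cases x1 : x = 1; · exact Or.inl x1
      by_cases x2 : x = dEl; · exact Or.inr (Or.inl x2)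
      by_cases x3 : x = r; · exact Or.inr (Or.inr (Or.inl x3))
      exact Or.inr (Or.inr (Or.inr (Or.inl (hs x hx x1 x2 x3))))
  have hw := List.all_eq_true.1 hnb _ (hnbD k hk)
  simp only [Bool.and_eq_true, decide_eq_true_eq, Nat.beq_eq, List.all_eq_true] at hw
  obtain ⟨⟨⟨⟨-, hn⟩, hncn⟩, hnz⟩, hok⟩ := hw
  set n := (nb.getD k (oneP, 0)).2 with hndef
  obtain ⟨z, hz⟩ := exists_encI inv_check.2.2.2 hn hncn
  have hzsq : z * z = 1 := by
    obtain ⟨σ, hσ, hc', rfl, hσ1, -, -⟩ := id hz.2.2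
    rw [inv_check.2.2.1, ← pk_one] at hσ1
    rw [kq_mul]
    refine (kq_congr (d := ∅) _ (one_mem _) _ empty_mem_codeSets ?_ ?_).trans kq_one_empty
    · rw [pk_inj hσ1, mul_one]
    · rw [pk_inj hσ1, one_smul, symmDiff_self, Finset.bot_eq_empty]
  have hzZ : CZ z := (hz.zI_iff hzsq).2 hnz
  have hgood : ∀ {x : Spor.Co1} {a : ℕ × ℕ}, x * x = 1 → EncI x a → okW n a = true →
      Commute x z ∧ ¬ CZ (z * x) := by
    intro x a hx ha h
    simp only [okW, Bool.and_eq_true, Bool.not_eq_true', ← Bool.not_eq_true] at h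
    have hc := (hz.commute ha).2 h.1
    have hm : mulI invId a.1 ≠ 127 := by
      intro e
      have := h.1
      rw [comI, e, Nat.beq_refl] at this
      simp at this
    refine ⟨hc.symm, fun hzx => h.2 (((hz.mul ha hm).zI_iff ?_).1 hzx)⟩
    rw [hc.symm.mul_mul_mul_comm, hzsq, hx, one_mul]
  refine ⟨z, hzZ, fun g hg => ?_, fun g hg g1 => ?_⟩
  all_goals
    have hd0 := hgood (sq_one_of_class (Or.inr CW_dEl)) dP_enc (hok _ (by simp))
    rcases hin g hg with rfl | rfl | rfl | rfl | ⟨E, hE, hc⟩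
    case inl => first | exact Commute.one_left z | exact absurd rfl g1
    case inr.inl => first | exact hd0.1 | exact hd0.2
    case inr.inr.inl =>
      have h := hgood (H.sq _ hg) hr (hok _ (by simp))
      first | exact h.1 | exact h.2
    case inr.inr.inr.inl =>
      have h := hgood (H.sq _ hg) (hr.mul dP_enc (dEl_mulI hr.1)) (hok _ (by simp))
      first | exact h.1 | exact h.2
    case inr.inr.inr.inr =>
      obtain ⟨c1, c2, c3⟩ := hcosetenc k hk E hE
      rcases hc with rfl | rfl | rfl | rfl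
      · have h := hgood (H.sq _ hg) hE (hok _ (by simp [coset]))
        first | exact h.1 | exact h.2
      · have h := hgood (H.sq _ hg) c1 (hok _ (by simp [coset]))
        first | exact h.1 | exact h.2
      · have h := hgood (H.sq _ hg) c2 (hok _ (by simp [coset]))
        first | exact h.1 | exact h.2
      · have h := hgood (H.sq _ hg) c3 (hok _ (by simp [coset]))
        first | exact h.1 | exact h.2

/-- A pure elementary group through the dodecad element commuting with the octad has an isolated octad. -/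
theorem exists_isolated {F : Subgroup Spor.Co1} (H : IsoHyp F) : Isolated F := by
  by_cases hnd : ∃ f ∈ F, ∃ a, EncI f a ∧ a.1 ≠ invId
  · obtain ⟨f, hf, a, ha, hne⟩ := hnd
    have hN : Nice f := H.nice hf (fun e => hne (congrArg Prod.fst (EncI.unique (e ▸ ha) oneP_enc)))
      (fun e => hne (congrArg Prod.fst (EncI.unique (e ▸ ha) dP_enc)))
    have hs := beq_all sig_check ha.1
    simp only [nbeq_false hne, Bool.false_or, Bool.and_eq_true, decide_eq_true_eq, Nat.beq_eq, pcF_eq] at hs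
    set t := sigTab.getD a.1 (0, 0, 0)
    obtain ⟨⟨⟨hA, hB⟩, hj⟩, hp⟩ := hs
    obtain ⟨k, hkz, hkd, hkf, -⟩ := pair_move hA hB ha.1 ha.2.1 ha.cn_self ha.2.2
    rw [hp] at hkf
    have hc := beq_all code_check hj
    simp only [Bool.and_eq_true, decide_eq_true_eq, List.all_eq_true, Bool.not_eq_true', ← Bool.not_eq_true,
      Nat.beq_eq] at hc
    obtain ⟨⟨⟨hall, hs76⟩, hsne⟩, hrows⟩ := hc
    set c2 := cn (actI t.1 (cn (actI t.2.1 a.2)))
    have hy : EncI (k * f * k⁻¹) (sRep.getD t.2.2 0, c2) := ⟨hs76, (cn_spec (actI_lt _ _)).1, hkf⟩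
    have h3 := hall c2 (List.mem_range.2 hy.2.1)
    rw [hy.cn_self, Nat.beq_refl, (hN.conj hkd).good_enc hy] at h3
    simp only [Bool.not_true, Bool.false_or, List.any_eq_true, Nat.beq_eq] at h3
    obtain ⟨u, hu, hue⟩ := h3
    obtain ⟨⟨⟨-, hw⟩, hu22⟩, -⟩ := hrows u hu
    have hrow := List.all_eq_true.1 (beq_all extra_check.2.2.2.1 hj) u hu
    rw [eqE_iff, hue] at hrow
    obtain ⟨σ, hσ, hpk, -⟩ := exists_invPerm inv_check.2.2.2
    have hwc := cn_spec hw
    obtain ⟨W, hW⟩ := exists_encI inv_check.2.2.2 hwc.1 (by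
      refine cmb_inj (cn_spec hwc.1).1 hwc.1 ?_
      rw [(cn_spec hwc.1).2.1, nrm, hwc.2.2]; rfl)
    have hWform : ∃ hc' : mset (cmb (cn u.2.1)) ∈ codeSets, W = kq 1 (one_mem _) (mset (cmb (cn u.2.1))) hc' := by
      obtain ⟨τ, hτ, hc', rfl, ht, -, -⟩ := id hW.2.2
      rw [inv_check.2.2.1, ← pk_one] at ht
      exact ⟨hc', kq_congr _ _ _ _ (pk_inj ht) rfl⟩
    obtain ⟨hc', hWeq⟩ := hWform
    have hW2 : W * W = 1 := by
      rw [hWeq, kq_mul]
      exact (kq_congr (d := ∅) _ (one_mem _) _ empty_mem_codeSets (one_mul 1)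
        (by rw [one_smul, symmDiff_self, Finset.bot_eq_empty])).trans kq_one_empty
    have hdiag : ∀ {d : Finset GolayPt} (hd : d ∈ codeSets), Commute W (kq 1 (one_mem _) d hd) := fun hd => by
      rw [hWeq, commute_iff_eq, kq_mul, kq_mul]
      exact kq_congr _ _ _ _ rfl (by rw [one_smul, one_smul, symmDiff_comm])
    have hWz : Commute W zEl := hdiag oSet_mem
    have hWd : Commute W dEl := hdiag dMask_code
    have hm1 : mulI (sRep.getD t.2.2 0) invId ≠ 127 := dEl_mulI hs76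
    have h4 := hy.mul hW hm1
    have hm2 : mulI invId (emI (sRep.getD t.2.2 0, c2) (invId, cn u.2.1)).1 ≠ 127 := by
      intro e
      have h := (mulI_spec inv_check.2.2.2 h4.1).1.1 e
      obtain ⟨ρ, -, hr', -⟩ := exists_invPerm h4.1
      rw [inv_check.2.2.1, ← hr', ← pk_one, ← pk_mul, ← pk_mul, mul_one, one_mul] at h
      exact h rfl
    have h5 := hW.mul h4 hm2
    rw [hrow] at h5
    refine isolated_conj (W * k) ?_
    have H' := H.conj (hWz.mul_left hkz) (hWd.mul_left hkd)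
    refine H'.of_rep (r := W * k * f * (W * k)⁻¹) hu22 ⟨f, hf, rfl⟩ ?_ fun e => ?_
    · rw [mul_inv_rev, inv_eq_of_mul_eq_one_right hW2,
        show W * k * f * (k⁻¹ * W) = W * (k * f * k⁻¹ * W) by group]
      exact h5
    · exfalso
      have h7 : (repList.getD u.2.2 oneP).1 = sRep.getD t.2.2 0 := by
        have h8 := (hrows u hu).2
        rw [eqE_iff] at h8
        exact (congrArg Prod.fst h8).symm
      exact hsne (h7.symm.trans e)
  · push Not at hnd
    by_cases hex : ∃ f ∈ F, f ≠ 1 ∧ f ≠ dEl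
    · obtain ⟨f, hf, f1, fd⟩ := hex
      obtain ⟨a, ha⟩ := H.enc hf
      have he := hnd f hf a ha
      have h := beq_all diag_check.1 ha.2.1
      rw [ha.cn_self, Nat.beq_refl, ← he, show (a.1, a.2) = a from rfl, (H.nice hf f1 fd).good_enc ha] at h
      simp only [Bool.not_true, Bool.false_or, List.any_eq_true, Nat.beq_eq] at h
      obtain ⟨u, hu, hue⟩ := h
      have h2 := List.all_eq_true.1 diag_check.2.1 u hu
      simp only [Bool.and_eq_true, decide_eq_true_eq, eqE_iff] at h2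
      obtain ⟨⟨⟨⟨-, hA⟩, hB⟩, hi⟩, hrow⟩ := h2
      rw [hue] at hrow
      obtain ⟨k, hkz, hkd, hkf, hkpres⟩ := pair_move hA hB ha.1 ha.2.1 ha.cn_self ha.2.2
      have hdiagEnc : ∀ g ∈ F, ∃ p, Enc g (pId, p) := fun g hg => by
        obtain ⟨b, hb⟩ := H.enc hg
        refine ⟨cmb b.2, ?_⟩
        have := hb.2.2
        rwa [hnd g hg b hb, inv_check.2.2.1] at this
      have hp := hkpres f (hdiagEnc f hf) _ hkf
      refine isolated_conj k ?_
      refine (H.conj hkz hkd).of_rep (r := k * f * k⁻¹) hi ⟨f, hf, rfl⟩ ?_ ?_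
      · rw [← hrow]
        refine ⟨inv_check.2.2.2, (cn_spec (actI_lt _ _)).1, ?_⟩
        rw [inv_check.2.2.1]
        simp only at hp
        rw [hp] at hkf
        exact hkf
      · rintro - _ ⟨g, hg, rfl⟩ b hb
        have hb1 := hkpres g (hdiagEnc g hg) _ hb.2.2
        have la : b.1 < invList.length := by rw [inv_check.2.1]; exact hb.1
        have lb : invId < invList.length := by rw [inv_check.2.1]; exact inv_check.2.2.2
        rw [← inv_check.2.2.1] at hb1
        simp only [List.getD_eq_getElem _ _ la, List.getD_eq_getElem _ _ lb] at hb1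
        exact (List.Nodup.getElem_inj_iff extra_check.2.1).1 hb1
    · push Not at hex
      have h0 := rep_chk (show 0 < 22 by norm_num)
      simp only [repChk, Bool.and_eq_true, List.all_eq_true] at h0
      obtain ⟨⟨⟨⟨hne, -⟩, -⟩, hnb⟩, -⟩ := h0
      obtain ⟨e, he⟩ : ∃ e, e ∈ nbTab.getD 0 [] := by
        cases hl : nbTab.getD 0 [] with
        | nil => rw [hl] at hne; simp at hne
        | cons x l => exact ⟨x, List.mem_cons_self⟩
      have hw := hnb e he
      simp only [decide_eq_true_eq, Nat.beq_eq] at hw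
      obtain ⟨⟨⟨⟨-, hn⟩, hncn⟩, hnz⟩, hok⟩ := hw
      obtain ⟨z, hz⟩ := exists_encI inv_check.2.2.2 hn hncn
      have hd := hok dP (by simp)
      simp only [okW, Bool.and_eq_true, Bool.not_eq_true', ← Bool.not_eq_true] at hd
      have hc := (hz.commute dP_enc).2 hd.1
      have hzsq : z * z = 1 := by
        obtain ⟨σ, hσ, hc', rfl, hσ1, -, -⟩ := id hz.2.2
        rw [inv_check.2.2.1, ← pk_one] at hσ1
        rw [kq_mul]
        refine (kq_congr (d := ∅) _ (one_mem _) _ empty_mem_codeSets ?_ ?_).trans kq_one_empty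
        · rw [pk_inj hσ1, mul_one]
        · rw [pk_inj hσ1, one_smul, symmDiff_self, Finset.bot_eq_empty]
      refine ⟨z, (hz.zI_iff hzsq).2 hnz, fun g hg => ?_, fun g hg g1 h => ?_⟩
      · by_cases g1 : g = 1
        · rw [g1]; exact Commute.one_left z
        · rw [hex g hg g1]; exact hc.symm
      · rw [hex g hg g1] at h
        refine hd.2 (((hz.mul dP_enc (dEl_mulI inv_check.2.2.2)).zI_iff ?_).1 h)
        rw [hc.symm.mul_mul_mul_comm, hzsq, sq_one_of_class (Or.inr CW_dEl), one_mul]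

end Cfsg.Lib.CoOneUniq
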