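import Cfsg.Agent.Lib.Extra.CoOneUniq.Descent
import Cfsg.Agent.Lib.Extra.CoOneUniq.Classes.Iso

/-!
# A subgroup isomorphic to the first Conway group with its fusion is the whole group
-/

set_option autoImplicit false
set_option maxRecDepth 8000

namespace Cfsg.Lib.CoOneUniq

open Cfsg Cfsg.Lib.Concrete Cfsg.Lib.CoOne
open scoped Pointwise symmDiff

theorem zEl_sq' : zEl * zEl = 1 := sq_one_of_class (Or.inl CZ_zEl)

theorem dEl_sq' : dEl * dEl = 1 := sq_one_of_class (Or.inr CW_dEl)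

/-- An octad element commuting with the dodecad element whose product with it is not central. -/
theorem exists_far_octad : ∃ o : Spor.Co1, CZ o ∧ Commute dEl o ∧ ¬ CZ (o * dEl) := by
  have hb : wMask < 2 ^ 24 ∧ isCode wMask = true := by decide +kernel
  have hc : mset wMask ∈ codeSets := (mset_mem_supports_iff hb.1).2 hb.2
  have ho := enc_kq (one_mem M24) hb.1 hc
  rw [pk_one] at ho
  set o := kq 1 (one_mem M24) (mset wMask) hc
  have hf : zb (pId, nrm wMask) = true ∧ zb (emul (pId, nrm wMask) (pId, dMask')) = false ∧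
      emul (pId, dMask') (pId, nrm wMask) = emul (pId, nrm wMask) (pId, dMask') ∧
      emul (pId, nrm wMask) (pId, nrm wMask) = (pId, 0) := by decide +kernel
  have hoo : o * o = 1 := Enc.eq (hf.2.2.2 ▸ ho.mul ho) enc_one
  have hcom : Commute dEl o := (enc_dEl.commute ho).2 hf.2.2.1
  refine ⟨o, (ho.CZ_iff hoo).2 hf.1, hcom, fun h => ?_⟩
  have hp : o * dEl * (o * dEl) = 1 := by rw [hcom.mul_mul_mul_comm, hoo, dEl_sq', one_mul]
  have := ((ho.mul enc_dEl).CZ_iff hp).1 h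
  rw [hf.2.1] at this
  exact Bool.false_ne_true this

variable {G : Type*} [Group G] {M : Subgroup G} (θ : ↥M ≃* Spor.Co1)

theorem isConj_coe {a b : ↥M} (h : IsConj a b) : IsConj (a : G) (b : G) :=
  M.subtype.map_isConj h

theorem isConj_conj {a b : G} (g : G) (h : IsConj a b) : IsConj a (g * b * g⁻¹) :=
  h.trans (isConj_iff.2 ⟨g, rfl⟩)

/-- A subgroup containing the centralizer of a central involution, isomorphic to the first Conway
group and controlling the fusion of its involutions, is everything. -/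
theorem descent_top (z0 : ↥M) (hz : θ z0 = zEl)
    (hC : Subgroup.centralizer ({(z0 : G)} : Set G) ≤ M)
    (hfus : ∀ a b : ↥M, a * a = 1 → a ≠ 1 → IsConj (a : G) (b : G) → IsConj a b)
    (hmeet : ∀ a : G, a * a = 1 → a ≠ 1 → ∃ g : G, g * a * g⁻¹ ∈ M) [Finite G] : M = ⊤ := by
  set d0 := θ.symm dEl with hd0
  set x0 := θ.symm xEl with hx0
  have hθd : θ d0 = dEl := θ.apply_symm_apply _
  have hθx : θ x0 = xEl := θ.apply_symm_apply _
  have sqM : ∀ (r : ↥M) (e : Spor.Co1), θ r = e → e * e = 1 → e ≠ 1 → r * r = 1 ∧ r ≠ 1 := by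
    rintro r e rfl h1 h2
    exact ⟨θ.injective (by rw [map_mul, h1, map_one]), fun h => h2 (by rw [h, map_one])⟩
  have hz0 := sqM z0 _ hz zEl_sq' (ne_one_of_class (Or.inl CZ_zEl))
  have hd1 := sqM d0 _ hθd dEl_sq' (ne_one_of_class (Or.inr CW_dEl))
  have hx1 := sqM x0 _ hθx xEl_sq xEl_ne
  -- the classes inside the subgroup
  have pull : ∀ (r : ↥M) (m : ↥M), IsConj (θ r) (θ m) → IsConj (r : G) (m : G) := by
    intro r m h
    have h' := θ.symm.toMonoidHom.map_isConj h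
    rw [MulEquiv.coe_toMonoidHom, θ.symm_apply_apply, θ.symm_apply_apply] at h'
    exact isConj_coe h'
  have hZ : ∀ m : ↥M, IsConj (z0 : G) m ↔ CZ (θ m) := fun m => by
    refine ⟨fun h => ?_, fun h => pull z0 m (by rw [hz]; exact CZ_isConj h)⟩
    obtain ⟨k, hk⟩ := isConj_iff.1 (θ.toMonoidHom.map_isConj (hfus z0 m hz0.1 hz0.2 h))
    rw [MulEquiv.coe_toMonoidHom, hz] at hk
    exact hk ▸ CZ_conj k _ CZ_zEl
  have hW : ∀ m : ↥M, IsConj (d0 : G) m ↔ CW (θ m) := fun m => by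
    refine ⟨fun h => ?_, fun h => pull d0 m (by rw [hθd]; exact CW_isConj h)⟩
    obtain ⟨k, hk⟩ := isConj_iff.1 (θ.toMonoidHom.map_isConj (hfus d0 m hd1.1 hd1.2 h))
    rw [MulEquiv.coe_toMonoidHom, hθd] at hk
    exact hk ▸ CW_conj k _ CW_dEl
  have hX : ∀ m : ↥M, IsConj (x0 : G) m ↔ CX (θ m) := fun m => by
    refine ⟨fun h => ?_, fun h => pull x0 m (by rw [hθx]; exact CX_isConj h)⟩
    obtain ⟨k, hk⟩ := isConj_iff.1 (θ.toMonoidHom.map_isConj (hfus x0 m hx1.1 hx1.2 h))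
    rw [MulEquiv.coe_toMonoidHom, hθx] at hk
    exact hk ▸ CX_conj k _ CX_xEl
  have comm : ∀ {a b : G} (ha : a ∈ M) (hb : b ∈ M), Commute a b →
      Commute (θ ⟨a, ha⟩) (θ ⟨b, hb⟩) := fun {a b} ha hb h =>
    Commute.map (show Commute (⟨a, ha⟩ : ↥M) ⟨b, hb⟩ from Subtype.ext h.eq) θ
  have invol : ∀ (r : ↥M), r * r = 1 ∧ r ≠ 1 → ∀ a : G, IsConj (r : G) a → a * a = 1 ∧ a ≠ 1 := by
    rintro r ⟨h1, h2⟩ a h
    obtain ⟨g, rfl⟩ := isConj_iff.1 h
    refine ⟨?_, fun e => h2 (Subtype.ext ?_)⟩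
    · rw [show g * r * g⁻¹ * (g * r * g⁻¹) = g * ((r * r : ↥M) : G) * g⁻¹ by push_cast; group, h1]
      simp
    · simpa using conj_eq_one_iff.1 e
  let D : DescentData M :=
  { Z := fun a => IsConj (z0 : G) a
    W := fun a => IsConj (d0 : G) a
    X := fun a => IsConj (x0 : G) a
    Z_conj := fun g a h => isConj_conj g h
    W_conj := fun g a h => isConj_conj g h
    X_conj := fun g a h => isConj_conj g h
    invol := fun a h => h.elim (invol z0 hz0 a) (invol d0 hd1 a)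
    cases := fun a ha ha1 => by
      obtain ⟨g, hg⟩ := hmeet a ha ha1
      have hconj : IsConj (g * a * g⁻¹) a := IsConj.symm (isConj_iff.2 ⟨g, rfl⟩)
      have h1 : θ ⟨_, hg⟩ * θ ⟨_, hg⟩ = 1 := by
        rw [← map_mul, ← map_one θ]
        refine congrArg θ (Subtype.ext ?_)
        show g * a * g⁻¹ * (g * a * g⁻¹) = 1
        rw [show g * a * g⁻¹ * (g * a * g⁻¹) = g * (a * a) * g⁻¹ by group, ha]; group
      have h2 : θ ⟨_, hg⟩ ≠ 1 := fun e => ha1 <| conj_eq_one_iff.1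
        (congrArg Subtype.val (θ.injective (e.trans (map_one θ).symm)) : g * a * g⁻¹ = 1)
      rcases class_cases h1 h2 with h | h | h
      · exact Or.inl (((hZ _).2 h).trans hconj)
      · exact Or.inr (Or.inl (((hW _).2 h).trans hconj))
      · exact Or.inr (Or.inr (((hX _).2 h).trans hconj))
    disj := fun a h1 h2 => by
      have h : IsConj (z0 : G) (d0 : G) := h1.trans h2.symm
      have := (hZ d0).1 h
      rw [hθd] at this
      exact CZ_not_CW this CW_dEl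
    z_point := fun g a ha h hg => by
      obtain ⟨m1, hm1⟩ := isConj_iff.1 (hfus z0 ⟨a, ha⟩ hz0.1 hz0.2 h)
      obtain ⟨m2, hm2⟩ := isConj_iff.1 (hfus z0 ⟨_, hg⟩ hz0.1 hz0.2 (isConj_conj g h))
      have e1 : (m1 : G) * z0 * (m1 : G)⁻¹ = a := congrArg Subtype.val hm1
      have e2 : (m2 : G) * z0 * (m2 : G)⁻¹ = g * a * g⁻¹ := congrArg Subtype.val hm2
      have hc : (m2 : G)⁻¹ * g * m1 ∈ Subgroup.centralizer ({(z0 : G)} : Set G) := by
        rw [Subgroup.mem_centralizer_singleton_iff]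
        rw [← e1] at e2
        calc (m2 : G)⁻¹ * g * m1 * z0 = (m2 : G)⁻¹ * (g * ((m1 : G) * z0 * (m1 : G)⁻¹) * g⁻¹) * g * m1 := by
              group
          _ = z0 * ((m2 : G)⁻¹ * g * m1) := by rw [← e2]; group
      have := M.mul_mem (M.mul_mem m2.2 (hC hc)) (M.inv_mem m1.2)
      simpa [mul_assoc] using this
    exists_z := ⟨z0, z0.2, IsConj.refl _⟩
    exists_w := ⟨d0, d0.2, IsConj.refl _⟩
    zz_no_x := fun a b ha hb h1 h2 hc h => by
      refine zz_not_CX ((hZ ⟨a, ha⟩).1 h1) ((hZ ⟨b, hb⟩).1 h2) (comm ha hb hc) ?_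
      rw [← map_mul]
      exact (hX ⟨a * b, mul_mem ha hb⟩).1 h
    zx_no_w := fun a b ha hb h1 h2 hc h => by
      refine zx_not_CW ((hZ ⟨a, ha⟩).1 h1) ((hX ⟨b, hb⟩).1 h2) (comm ha hb hc) ?_
      rw [← map_mul]
      exact (hW ⟨a * b, mul_mem ha hb⟩).1 h
    w_start := fun e he h => by
      obtain ⟨k, hk⟩ := isConj_iff.1 (CW_isConj ((hW ⟨e, he⟩).1 h))
      obtain ⟨o, ho, hdo, hnod⟩ := exists_far_octad
      set z1 := θ.symm (k * zEl * k⁻¹) with hz1
      set z2 := θ.symm (k * o * k⁻¹) with hz2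
      have t1 : θ z1 = k * zEl * k⁻¹ := θ.apply_symm_apply _
      have t2 : θ z2 = k * o * k⁻¹ := θ.apply_symm_apply _
      have hcd : Commute dEl zEl := (enc_dEl.commute enc_zEl).2 (by decide +kernel)
      have back : ∀ {r : ↥M}, Commute (θ ⟨e, he⟩) (θ r) → Commute e (r : G) := fun {r} h => by
        have h' : Commute (⟨e, he⟩ : ↥M) r := θ.injective (by rw [map_mul, map_mul]; exact h.eq)
        exact congrArg Subtype.val h'.eq
      refine ⟨z1, z2, z1.2, z2.2, (hZ z1).2 (t1 ▸ CZ_conj k _ CZ_zEl), (hZ z2).2 (t2 ▸ CZ_conj k _ ho),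
        back (by rw [t1, ← hk]; exact conj_comm k hcd), back (by rw [t2, ← hk]; exact conj_comm k hdo),
        ?_, fun h2 => hnod ?_⟩
      · refine (hZ (z1 * ⟨e, he⟩)).2 ?_
        rw [map_mul, t1, ← hk, conj_mul]
        exact CZ_conj k _ zd_CZ
      · have := (hZ (z2 * ⟨e, he⟩)).1 h2
        rw [map_mul, t2, ← hk, conj_mul] at this
        have h3 := CZ_conj k⁻¹ _ this
        rwa [inv_inv, show k⁻¹ * (k * (o * dEl) * k⁻¹) * k = o * dEl by group] at h3
    step := fun F hFM hsq hnZ s hs hsW z' hz' hzZ hzc hzs => by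
      set F' := (F.subgroupOf M).map θ.toMonoidHom with hF'
      obtain ⟨k, hk⟩ := isConj_iff.1 (CZ_isConj ((hZ ⟨z', hz'⟩).1 hzZ))
      have hk' : k⁻¹ * θ ⟨z', hz'⟩ * k⁻¹⁻¹ = zEl := by rw [← hk]; group
      have hu1 : Commute (k⁻¹ * θ ⟨s, hFM hs⟩ * k⁻¹⁻¹) zEl :=
        hk' ▸ conj_comm _ (comm _ _ (hzc s hs))
      have hu2 : CW (k⁻¹ * θ ⟨s, hFM hs⟩ * k⁻¹⁻¹) := CW_conj _ _ ((hW ⟨s, hFM hs⟩).1 hsW)
      have hu3 : CZ (zEl * (k⁻¹ * θ ⟨s, hFM hs⟩ * k⁻¹⁻¹)) := by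
        rw [← hk', conj_mul, ← map_mul]
        exact CZ_conj _ _ ((hZ ⟨z' * s, mul_mem hz' (hFM hs)⟩).1 hzs)
      obtain ⟨k2, hk2z, hk2⟩ := pair_conj hu1 hu2 hu3
      have H : IsoHyp (F'.map (MulAut.conj (k2 * k⁻¹)).toMonoidHom) := by
        refine ⟨?_, ?_, ⟨θ ⟨s, hFM hs⟩, ⟨⟨s, hFM hs⟩, hs, rfl⟩, ?_⟩, ?_⟩
        · rintro _ ⟨_, ⟨m, hm, rfl⟩, rfl⟩
          rw [← map_mul, ← map_mul, show m * m = 1 from Subtype.ext (hsq _ hm), map_one, map_one]
        · rintro _ ⟨_, ⟨m, hm, rfl⟩, rfl⟩ h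
          have h' : CZ (θ m) := by
            have := CZ_conj (k2 * k⁻¹)⁻¹ _ h
            simpa [MulAut.conj_apply, mul_assoc] using this
          exact hnZ _ hm ((hZ m).2 h')
        · rw [← hk2]; simp [MulAut.conj_apply, mul_assoc]
        · rintro _ ⟨_, ⟨m, hm, rfl⟩, rfl⟩
          have h1 : Commute (θ m) (θ ⟨z', hz'⟩) := comm m.2 hz' (hzc _ hm)
          have h2 := conj_comm k⁻¹ h1
          rw [hk'] at h2
          have h3 := conj_comm k2 h2
          rw [hk2z.eq, mul_inv_cancel_right] at h3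
          simpa [MulAut.conj_apply, mul_assoc] using h3
      obtain ⟨w, hw, hwc, hwi⟩ := isolated_conj (k2 * k⁻¹) (exists_isolated H)
      have hmem : ∀ f (hf : f ∈ F), θ ⟨f, hFM hf⟩ ∈ F' := fun f hf => ⟨⟨f, hFM hf⟩, hf, rfl⟩
      refine ⟨(θ.symm w : ↥M), (θ.symm w).2, (hZ _).2 (by rw [θ.apply_symm_apply]; exact hw),
        fun f hf => ?_, fun f hf f1 h => ?_⟩
      · have h' := hwc _ (hmem f hf)
        have : Commute (⟨f, hFM hf⟩ : ↥M) (θ.symm w) :=
          θ.injective (by rw [map_mul, map_mul, θ.apply_symm_apply]; exact h'.eq)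
        exact congrArg Subtype.val this.eq
      · refine hwi _ (hmem f hf) (fun e => f1 ?_) ?_
        · exact congrArg Subtype.val (θ.injective (e.trans (map_one θ).symm))
        · have := (hZ (θ.symm w * ⟨f, hFM hf⟩)).1 h
          rwa [map_mul, θ.apply_symm_apply] at this }
  exact D.eq_top

end Cfsg.Lib.CoOneUniq
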