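import Cfsg.Agent.Lib.Extra.CoOneUniq.Classes.IsoOps

/-!
# Kernel checks for the isolated octad
-/

set_option autoImplicit false
set_option maxRecDepth 100000

namespace Cfsg.Lib.CoOneUniq

open Cfsg Cfsg.Lib.Concrete Cfsg.Lib.CoOne

/-- The identity. -/
def oneP : ℕ × ℕ := (invId, 0)

/-- The dodecad element. -/
def dP : ℕ × ℕ := (invId, Nat.land dMask' 4095)

/-- Equality of pairs. -/
def eqE (a b : ℕ × ℕ) : Bool := Nat.beq a.1 b.1 && Nat.beq a.2 b.2

theorem eqE_iff {a b : ℕ × ℕ} : eqE a b = true ↔ a = b := by
  simp [eqE, Prod.ext_iff]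

/-- Equality of lists of pairs. -/
def eqL : List (ℕ × ℕ) → List (ℕ × ℕ) → Bool
  | [], [] => true
  | a :: l, b :: m => eqE a b && eqL l m
  | _, _ => false

theorem eqL_iff : ∀ {l m : List (ℕ × ℕ)}, eqL l m = true → l = m
  | [], [], _ => rfl
  | a :: l, b :: m, h => by
    simp only [eqL, Bool.and_eq_true] at h
    rw [eqE_iff.1 h.1, eqL_iff h.2]
  | [], _ :: _, h => by simp [eqL] at h
  | _ :: _, [], h => by simp [eqL] at h

/-- An element that may lie in the group. -/
def good (a : ℕ × ℕ) : Bool :=
  Nat.beq (cn (Nat.xor a.2 (actI a.1 a.2))) 0 && !zI a && !zI (emI a dP) && !eqE a oneP && !eqE a dP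

/-- One level of the search for permutations fixing the octad and the dodecad. -/
def stLevel (k : ℕ) (ps : List ℕ) : List ℕ :=
  ps.flatMap fun p => ((m24Tr.getD k []).map fun e => pcF p (m24Perms.getD e.2 0)).filter fun q =>
    (m24BaseOctad.testBit (pget q (m24Base.getD k 0)) == m24BaseOctad.testBit (m24Base.getD k 0)) &&
    (dMask.testBit (pget q (m24Base.getD k 0)) == dMask.testBit (m24Base.getD k 0))

/-- The search. -/
def stList : ℕ → List ℕ
  | 0 => [pId]
  | k + 1 => stLevel k (stList k)

theorem st_check : (stList 7).all (fun p =>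
    !Nat.beq (pcF p p) pId || !Nat.beq (pimg p m24BaseOctad) m24BaseOctad || !Nat.beq (pimg p dMask) dMask ||
      invList.any (Nat.beq p)) = true := by
  decide +kernel

theorem sig_check :
    (List.range 76).all (fun i =>
      let e := sigTab.getD i (0, 0, 0)
      Nat.beq i invId || (decide (e.1 < 76) && decide (e.2.1 < 76) && decide (e.2.2 < 3) &&
        Nat.beq (pcF (invList.getD e.1 0) (pcF (pcF (invList.getD e.2.1 0)
          (pcF (invList.getD i 0) (invList.getD e.2.1 0))) (invList.getD e.1 0)))
          (invList.getD (sRep.getD e.2.2 0) 0))) = true := by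
  decide +kernel

theorem code_check :
    (List.range 3).all (fun j =>
      (List.range 4096).all (fun c => !Nat.beq (cn c) c || !good (sRep.getD j 0, c) ||
        (codeTab.getD j []).any (fun e => Nat.beq e.1 c)) &&
      decide (sRep.getD j 0 < 76) && !Nat.beq (sRep.getD j 0) invId &&
      (codeTab.getD j []).all (fun e => decide (e.1 < 4096) && decide (e.2.1 < 4096) && decide (e.2.2 < 22) &&
        eqE (sRep.getD j 0, cn (Nat.xor (Nat.xor e.2.1 e.1) (actI (sRep.getD j 0) e.2.1)))
          (repList.getD e.2.2 oneP))) = true := by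
  decide +kernel

theorem diag_check :
    ((List.range 4096).all fun c => !Nat.beq (cn c) c || !good (invId, c) ||
      diagTab.any (fun e => Nat.beq e.1 c)) = true ∧
    (diagTab.all fun e => decide (e.1 < 4096) && decide (e.2.1 < 76) && decide (e.2.2.1 < 76) &&
      decide (e.2.2.2 < 22) &&
      eqE (invId, cn (actI e.2.1 (cn (actI e.2.2.1 e.1)))) (repList.getD e.2.2.2 oneP)) = true ∧
    (List.range 22).all (fun i => decide ((repList.getD i oneP).1 < 76) && decide ((repList.getD i oneP).2 < 4096) &&
      good (repList.getD i oneP)) = true := by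
  decide +kernel

/-- The candidates over an involution of the list. -/
def candsOf (i : ℕ) : List (ℕ × ℕ) :=
  bif Nat.beq i invId then diagTab.map (fun e => (invId, e.1)) else
    let e := sigTab.getD i (0, 0, 0)
    (codeTab.getD e.2.2 []).map fun c => (i, cn (actI e.2.1 (cn (actI e.1 c.1))))

/-- The involutions of the list to look at for a representative. -/
def sigOf (r : ℕ × ℕ) : List ℕ :=
  bif Nat.beq r.1 invId then [invId] else (List.range 76).filter fun i => !Nat.beq (mulI r.1 i) 127

/-- A neighbour of a representative. -/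
def nbrI (r g : ℕ × ℕ) : Bool :=
  comI r g && !zI (emI r g) && !zI (emI (emI r g) dP) && !eqE g r && !eqE g (emI r dP)

/-- The representatives of the coset of the group of `r` and the dodecad. -/
def coset (r g : ℕ × ℕ) : List (ℕ × ℕ) :=
  [g, emI g dP, emI r g, emI (emI r g) dP]

/-- The witness commutes and is isolated. -/
def okW (n : ℕ) (x : ℕ × ℕ) : Bool :=
  comI (invId, n) x && !zI (emI (invId, n) x)

/-- Two neighbours that cannot both lie in the group. -/
def badPair (r e f : ℕ × ℕ) : Bool :=
  !comI e f || zI (emI e f) || zI (emI (emI e f) dP) || zI (emI r (emI e f)) || zI (emI (emI r (emI e f)) dP)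

/-- All pairs of a list cannot both lie in the group. -/
def badPairs (r : ℕ × ℕ) : List ((ℕ × ℕ) × ℕ) → Bool
  | [] => true
  | e :: l => l.all (fun f => badPair r e.1 f.1) && badPairs r l

/-- The check for one representative. -/
def repChk (i : ℕ) : Bool :=
  let r := repList.getD i oneP
  let nb := nbTab.getD i []
  let full := fullTab.getD i []
  !nb.isEmpty &&
  eqL (((sigOf r).flatMap candsOf).filter (nbrI r)) (full.map Prod.fst) &&
  full.all (fun g => (coset r (nb.getD g.2 (oneP, 0)).1).any (eqE g.1) && decide (g.2 < nb.length)) &&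
  nb.all (fun e => decide (e.1.1 < 76) && decide (e.1.2 < 4096) && decide (e.2 < 4096) && Nat.beq (cn e.2) e.2 &&
    zI (invId, e.2) && ([dP, r, emI r dP] ++ coset r e.1).all (okW e.2)) &&
  badPairs r nb

end Cfsg.Lib.CoOneUniq
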