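import Cfsg.Agent.Lib.Extra.CoOneUniq.Classes.Mono
import Cfsg.Agent.Lib.Extra.CoOneUniq.Classes.IsoData

/-!
# Tabulated arithmetic of monomial involutions fixing the octad and the dodecad

An element is the position of its permutation and the coordinates of its word.
-/

set_option autoImplicit false
set_option maxRecDepth 100000

namespace Cfsg.Lib.CoOneUniq

open Cfsg Cfsg.Lib.Concrete Cfsg.Lib.CoOne

/-- The packed product, unrolled. -/
def pcF (p q : ℕ) : ℕ :=
  Nat.add (pget p (pget q 0)) (Nat.mul 32 (Nat.add (pget p (pget q 1)) (Nat.mul 32 (Nat.add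
    (pget p (pget q 2)) (Nat.mul 32 (Nat.add (pget p (pget q 3)) (Nat.mul 32 (Nat.add (pget p
    (pget q 4)) (Nat.mul 32 (Nat.add (pget p (pget q 5)) (Nat.mul 32 (Nat.add (pget p (pget q
    6)) (Nat.mul 32 (Nat.add (pget p (pget q 7)) (Nat.mul 32 (Nat.add (pget p (pget q 8))
    (Nat.mul 32 (Nat.add (pget p (pget q 9)) (Nat.mul 32 (Nat.add (pget p (pget q 10)) (Nat.mul
    32 (Nat.add (pget p (pget q 11)) (Nat.mul 32 (Nat.add (pget p (pget q 12)) (Nat.mul 32
    (Nat.add (pget p (pget q 13)) (Nat.mul 32 (Nat.add (pget p (pget q 14)) (Nat.mul 32 (Nat.add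
    (pget p (pget q 15)) (Nat.mul 32 (Nat.add (pget p (pget q 16)) (Nat.mul 32 (Nat.add (pget p
    (pget q 17)) (Nat.mul 32 (Nat.add (pget p (pget q 18)) (Nat.mul 32 (Nat.add (pget p (pget q
    19)) (Nat.mul 32 (Nat.add (pget p (pget q 20)) (Nat.mul 32 (Nat.add (pget p (pget q 21))
    (Nat.mul 32 (Nat.add (pget p (pget q 22)) (Nat.mul 32 (Nat.add (pget p (pget q 23)) (Nat.mul
    32 (0))))))))))))))))))))))))))))))))))))))))))))))))

theorem pcF_eq (p q : ℕ) : pcF p q = pcomp p q := by
  unfold pcF pcomp
  simp only [bits24, List.map_cons, List.map_nil, packList]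

/-- An entry of a packed table. -/
def look (T k w mask : ℕ) : ℕ := Nat.land (Nat.shiftRight T (Nat.mul w k)) mask

/-- The action of an involution on coordinates. -/
def actI (i c : ℕ) : ℕ :=
  Nat.xor (look (actLo.getD i 0) (Nat.land c 63) 12 4095) (look (actHi.getD i 0) (Nat.shiftRight c 6) 12 4095)

/-- The word of coordinates. -/
def cmb (c : ℕ) : ℕ :=
  Nat.xor (look cmbLo (Nat.land c 63) 24 16777215) (look cmbHi (Nat.shiftRight c 6) 24 16777215)

/-- The coordinates of the complement avoiding the extra point. -/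
def cn (c : ℕ) : ℕ :=
  bif Nat.beq (Nat.land (Nat.shiftRight (cmb c) 23) 1) 1 then Nat.xor c 4095 else c

/-- The product of two involutions of the list. -/
def mulI (i j : ℕ) : ℕ := look (mulTab.getD i 0) j 7 127

/-- The product. -/
def emI (a b : ℕ × ℕ) : ℕ × ℕ := (mulI a.1 b.1, cn (Nat.xor a.2 (actI a.1 b.2)))

/-- Two elements commute. -/
def comI (a b : ℕ × ℕ) : Bool :=
  !Nat.beq (mulI a.1 b.1) 127 && Nat.beq (cn (Nat.xor a.2 (actI a.1 b.2))) (cn (Nat.xor b.2 (actI b.1 a.2)))

/-- The test for the central class. -/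
def zI (a : ℕ × ℕ) : Bool :=
  Nat.beq (actI a.1 a.2) a.2 &&
    Nat.beq (Nat.mod (Nat.pow (Nat.add (pcnt (fixTab.getD a.1 0))
      (Nat.mul 11 (pcnt (Nat.land (fixTab.getD a.1 0) (cmb a.2))))) 2) 13) 12

theorem cmb_check :
    (List.range 12).all (fun k => Nat.beq (cmb (2 ^ k)) (combo (2 ^ k))) = true ∧
    (List.range 64).all (fun k => Nat.beq (cmb k) (combo k) && Nat.beq (cmb (k <<< 6)) (combo (k <<< 6))) = true := by
  decide +kernel

theorem act_check :
    (List.range 76).all (fun i =>
      let T := (List.range 12).map fun k => (pimg (invList.getD i 0) (combo (2 ^ k))) &&& 4095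
      (List.range 12).all (fun k => Nat.beq (combo (T.getD k 0)) (pimg (invList.getD i 0) (combo (2 ^ k)))) &&
      (List.range 64).all (fun k => Nat.beq (actI i k) (comboAux T k) &&
        Nat.beq (actI i (k <<< 6)) (comboAux T (k <<< 6)))) = true := by
  decide +kernel

theorem fix_check :
    (List.range 76).all (fun i => Nat.beq (fixTab.getD i 0) (fmk (invList.getD i 0))) = true := by
  decide +kernel

theorem inv_check :
    (List.range 76).all (fun i =>
      let p := invList.getD i 0
      Nat.beq (pcF p p) pId && bits24.all (fun j => decide (pget p j < 24) && Nat.beq (pget p (pget p j)) j) &&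
      basisMasks.all (fun b => isCode (pimg p b) && decide (pimg p b < 16777216)) &&
      Nat.beq (pimg p m24BaseOctad) m24BaseOctad && Nat.beq (pimg p dMask) dMask) = true ∧
    invList.length = 76 ∧ invList.getD invId 0 = pId ∧ invId < 76 := by
  decide +kernel

theorem mul_check :
    (List.range 76).all (fun i => (List.range 76).all fun j =>
      let p := invList.getD i 0
      let q := invList.getD j 0
      bif Nat.beq (mulI i j) 127 then !Nat.beq (pcF p q) (pcF q p)
      else decide (mulI i j < 76) && Nat.beq (invList.getD (mulI i j) 0) (pcF p q)) = true := by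
  decide +kernel

end Cfsg.Lib.CoOneUniq
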