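import Cfsg.Agent.Lib.Extra.CoOneUniq.Classes.IsoChecks

/-!
# Checks for some representatives
-/

set_option autoImplicit false
set_option maxRecDepth 100000

namespace Cfsg.Lib.CoOneUniq

theorem rep_check_0 : repChk 0 = true := by decide +kernel

theorem rep_check_1 : repChk 1 = true := by decide +kernel

theorem rep_check_2 : repChk 2 = true := by decide +kernel

theorem rep_check_3 : repChk 3 = true := by decide +kernel

theorem rep_check_4 : repChk 4 = true := by decide +kernel

theorem rep_check_5 : repChk 5 = true := by decide +kernel

end Cfsg.Lib.CoOneUniq
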