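import Cfsg.Agent.Lib.Extra.CoOneUniq.Classes.IsoChecks

/-!
# Checks for some representatives
-/

set_option autoImplicit false
set_option maxRecDepth 100000

namespace Cfsg.Lib.CoOneUniq

theorem rep_check_6 : repChk 6 = true := by decide +kernel

theorem rep_check_7 : repChk 7 = true := by decide +kernel

theorem rep_check_8 : repChk 8 = true := by decide +kernel

theorem rep_check_9 : repChk 9 = true := by decide +kernel

theorem rep_check_10 : repChk 10 = true := by decide +kernel

end Cfsg.Lib.CoOneUniq
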