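import Cfsg.Agent.Lib.Extra.CoOneUniq.Classes.IsoChecks

/-!
# Checks for some representatives
-/

set_option autoImplicit false
set_option maxRecDepth 100000

namespace Cfsg.Lib.CoOneUniq

theorem rep_check_11 : repChk 11 = true := by decide +kernel

theorem rep_check_12 : repChk 12 = true := by decide +kernel

theorem rep_check_13 : repChk 13 = true := by decide +kernel

theorem rep_check_14 : repChk 14 = true := by decide +kernel

theorem rep_check_15 : repChk 15 = true := by decide +kernel

theorem rep_check_16 : repChk 16 = true := by decide +kernel

end Cfsg.Lib.CoOneUniq
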