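import Cfsg.Agent.Lib.Extra.CoOneUniq.Classes.IsoRepA
import Cfsg.Agent.Lib.Extra.CoOneUniq.Classes.IsoRepB
import Cfsg.Agent.Lib.Extra.CoOneUniq.Classes.IsoRepC
import Cfsg.Agent.Lib.Extra.CoOneUniq.Classes.IsoRepD
import Cfsg.Agent.Lib.Extra.CoOneUniq.Classes.Central

/-!
# What the tabulated arithmetic means
-/

set_option autoImplicit false
set_option maxRecDepth 100000

namespace Cfsg.Lib.CoOneUniq

open Cfsg Cfsg.Lib.Concrete Cfsg.Lib.CoOne
open scoped Pointwise symmDiff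

theorem extra_check :
    (List.range 76).all (fun i => Nat.beq (pcF (invList.getD i 0) pId) (invList.getD i 0)) = true ∧
    invList.Nodup ∧
    (List.range 22).all (fun i => (nbTab.getD i []).all fun e =>
      Nat.beq (cn e.1.2) e.1.2 && comI (repList.getD i oneP) e.1 && comI e.1 dP) = true ∧
    (List.range 3).all (fun j => (codeTab.getD j []).all fun e =>
      eqE (emI (invId, cn e.2.1) (emI (sRep.getD j 0, e.1) (invId, cn e.2.1)))
        (repList.getD e.2.2 oneP)) = true ∧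
    (List.range 76).all (fun i => comI (i, 0) dP) = true ∧
    (pId, cmb dP.2) = (pId, dMask') ∧ dP.2 < 4096 := by
  decide +kernel

theorem pimg_zero (p : ℕ) : pimg p 0 = 0 := by
  refine Nat.eq_of_testBit_eq fun j => ?_
  rw [Nat.zero_testBit, Bool.eq_false_iff]
  intro h
  obtain ⟨i, -, hi, -⟩ := (testBit_orMask _ _ _ _).1 h
  simp at hi

theorem pimg_xor {σ : Equiv.Perm GolayPt} {p : ℕ} (h : Rep σ p) (a b : ℕ) :
    pimg p (a ^^^ b) = pimg p a ^^^ pimg p b := by
  refine mset_inj (pimg_lt h _) (Nat.xor_lt_two_pow (pimg_lt h _) (pimg_lt h _)) ?_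
  rw [mset_xor, ← h.smul_mset, ← h.smul_mset, ← h.smul_mset, mset_xor, Finset.smul_finset_symmDiff]

theorem combo_zero : combo 0 = 0 := rfl

theorem combo_comboAux : ∀ (L : List ℕ) (c : ℕ), combo (comboAux L c) = comboAux (L.map combo) c
  | [], _ => combo_zero
  | b :: L, c => by
    simp only [comboAux, List.map_cons, combo_xor, combo_comboAux L]
    cases (c % 2 == 1) <;> simp [combo_zero]

theorem pimg_comboAux {σ : Equiv.Perm GolayPt} {p : ℕ} (h : Rep σ p) :
    ∀ (L : List ℕ) (c : ℕ), pimg p (comboAux L c) = comboAux (L.map (pimg p)) c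
  | [], _ => pimg_zero p
  | b :: L, c => by
    simp only [comboAux, List.map_cons, pimg_xor h, pimg_comboAux h L]
    cases (c % 2 == 1) <;> simp [pimg_zero]

theorem basis_eq : basisMasks = (List.range 12).map fun k => combo (2 ^ k) := by decide +kernel

theorem beq_all {n : ℕ} {f : ℕ → Bool} (h : (List.range n).all f = true) {i : ℕ} (hi : i < n) : f i = true :=
  List.all_eq_true.1 h i (List.mem_range.2 hi)

theorem split_six {c : ℕ} (hc : c < 4096) :
    c = (c &&& 63) ^^^ ((c >>> 6) <<< 6) ∧ c &&& 63 < 64 ∧ c >>> 6 < 64 := by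
  refine ⟨?_, ?_, ?_⟩
  · refine Nat.eq_of_testBit_eq fun j => ?_
    rw [Nat.testBit_xor, Nat.testBit_and, Nat.testBit_shiftLeft, Nat.testBit_shiftRight,
      show (63 : ℕ) = 2 ^ 6 - 1 from rfl, Nat.testBit_two_pow_sub_one]
    by_cases hj : j < 6
    · simp [hj, Nat.not_le.2 (Nat.lt_of_lt_of_le hj (le_refl 6))]
    · simp [hj, show 6 ≤ j by omega, show 6 + (j - 6) = j by omega]
  · rw [show (63 : ℕ) = 2 ^ 6 - 1 from rfl, Nat.and_two_pow_sub_one_eq_mod]
    exact Nat.mod_lt _ (by norm_num)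
  · rw [Nat.shiftRight_eq_div_pow]
    omega

theorem look_lt (T k : ℕ) {w : ℕ} : look T k w 4095 < 4096 :=
  lt_of_le_of_lt Nat.and_le_right (by norm_num)

theorem six_parts {k : ℕ} (hk : k < 64) :
    Nat.land k 63 = k ∧ Nat.shiftRight k 6 = 0 ∧ Nat.land (k <<< 6) 63 = 0 ∧ Nat.shiftRight (k <<< 6) 6 = k := by
  revert k
  decide +kernel

theorem tab_split {T : List ℕ} {lo hi w m : ℕ}
    (h : ∀ k < 64, Nat.xor (look lo (Nat.land k 63) w m) (look hi (Nat.shiftRight k 6) w m) = comboAux T k ∧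
      Nat.xor (look lo (Nat.land (k <<< 6) 63) w m) (look hi (Nat.shiftRight (k <<< 6) 6) w m) =
        comboAux T (k <<< 6))
    {c : ℕ} (hc : c < 4096) :
    Nat.xor (look lo (Nat.land c 63) w m) (look hi (Nat.shiftRight c 6) w m) = comboAux T c := by
  obtain ⟨e, h1, h2⟩ := split_six hc
  have h0 := (h 0 (by norm_num)).1
  have hz : comboAux T 0 = 0 := by
    have := comboAux_xor T 0 0
    simpa using this
  rw [hz, show Nat.land 0 63 = 0 from rfl, show Nat.shiftRight 0 6 = 0 from rfl] at h0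
  have ha := (h _ h1).1
  have hb := (h _ h2).2
  rw [(six_parts h1).1, (six_parts h1).2.1] at ha
  rw [(six_parts h2).2.2.1, (six_parts h2).2.2.2] at hb
  conv_rhs => rw [e, comboAux_xor, ← ha, ← hb]
  show look lo (c &&& 63) w m ^^^ look hi (c >>> 6) w m =
    (look lo (c &&& 63) w m ^^^ look hi 0 w m) ^^^ (look lo 0 w m ^^^ look hi (c >>> 6) w m)
  have h0' : look hi 0 w m = look lo 0 w m := by
    have h00 : look lo 0 w m ^^^ look hi 0 w m = 0 := h0
    calc look hi 0 w m = look lo 0 w m ^^^ (look lo 0 w m ^^^ look hi 0 w m) := by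
          rw [← Nat.xor_assoc, Nat.xor_self, Nat.zero_xor]
      _ = look lo 0 w m := by rw [h00, Nat.xor_zero]
  rw [h0', Nat.xor_assoc, ← Nat.xor_assoc (look lo 0 w m), Nat.xor_self, Nat.zero_xor]

theorem cmb_eq {c : ℕ} (hc : c < 4096) : cmb c = combo c := by
  refine tab_split (T := basisMasks) (fun k hk => ?_) hc
  have := beq_all cmb_check.2 hk
  simp only [Bool.and_eq_true, Nat.beq_eq] at this
  exact this

/-- An involution of the list as a permutation. -/
theorem exists_invPerm {i : ℕ} (hi : i < 76) :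
    ∃ σ : Equiv.Perm GolayPt, σ ∈ M24 ∧ pk σ = invList.getD i 0 ∧ Rep σ (invList.getD i 0) ∧
      σ • oSet = oSet ∧ σ • mset dMask = mset dMask ∧ σ * σ = 1 := by
  have h := beq_all inv_check.1 hi
  simp only [Bool.and_eq_true, List.all_eq_true, Nat.beq_eq, decide_eq_true_eq] at h
  obtain ⟨⟨⟨⟨-, hinv⟩, hcode⟩, hO⟩, hD⟩ := h
  set p := invList.getD i 0
  let F : GolayPt → GolayPt := pFun p
  have hF : ∀ x, (gidx (F x)).val = pget p (gidx x).val := fun x => by
    have := (hinv _ (mem_bits24.2 (gidx x).isLt)).1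
    show (gidx (gpt (Fin.ofNat 24 _))).val = _
    rw [gidx_gpt, Fin.val_ofNat, Nat.mod_eq_of_lt this]
  have hFF : ∀ x, F (F x) = x := fun x => gidx_injective (Fin.ext (by
    rw [hF, hF]; exact (hinv _ (mem_bits24.2 (gidx x).isLt)).2))
  let σ : Equiv.Perm GolayPt := ⟨F, F, hFF, hFF⟩
  have hrep : Rep σ p := hF
  refine ⟨σ, rep_mem_M24 hrep ?_, ?_, hrep, ?_, ?_, Equiv.ext hFF⟩
  · exact List.all_eq_true.2 fun b hb => by
      simp only [Bool.and_eq_true, decide_eq_true_eq]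
      exact hcode b hb
  · have e := beq_all extra_check.1 hi
    rw [Nat.beq_eq, pcF_eq, ← pk_one] at e
    refine Eq.trans ?_ e
    unfold pcomp
    conv_lhs => unfold pk
    refine congrArg packList (List.map_congr_left fun j hj => ?_)
    have ej : (gidx (gpt (Fin.ofNat 24 j))).val = j := by
      rw [gidx_gpt]; exact Nat.mod_eq_of_lt (mem_bits24.1 hj)
    have h1 := rep_pk (1 : Equiv.Perm GolayPt) (gpt (Fin.ofNat 24 j))
    rw [Equiv.Perm.one_apply, ej] at h1
    rw [hrep, ej, ← h1]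
  · show σ • mset m24BaseOctad = mset m24BaseOctad
    rw [hrep.smul_mset, hO]
  · rw [hrep.smul_mset, hD]

theorem actI_lt (i c : ℕ) : actI i c < 4096 := Nat.xor_lt_two_pow (n := 12) (look_lt _ _) (look_lt _ _)

theorem actI_spec {i : ℕ} (hi : i < 76) {c : ℕ} (hc : c < 4096) :
    cmb (actI i c) = pimg (invList.getD i 0) (cmb c) := by
  obtain ⟨σ, -, -, hrep, -⟩ := exists_invPerm hi
  have h := beq_all act_check hi
  simp only [Bool.and_eq_true, List.all_eq_true, List.mem_range, Nat.beq_eq] at h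
  obtain ⟨h1, h2⟩ := h
  set T := (List.range 12).map fun k => pimg (invList.getD i 0) (combo (2 ^ k)) &&& 4095
  have hT : T.map combo = basisMasks.map (pimg (invList.getD i 0)) := by
    rw [basis_eq, List.map_map, List.map_map]
    refine List.map_congr_left fun k hk => ?_
    have := h1 k (List.mem_range.1 hk)
    rw [List.getD_eq_getElem _ _ (by simpa [T] using List.mem_range.1 hk)] at this
    simpa [T] using this
  rw [cmb_eq (actI_lt i c), cmb_eq hc, actI, tab_split h2 hc, combo_comboAux, hT]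
  exact (pimg_comboAux hrep basisMasks c).symm

theorem cmb_inj {a b : ℕ} (ha : a < 4096) (hb : b < 4096) (h : cmb a = cmb b) : a = b := by
  rw [cmb_eq ha, cmb_eq hb] at h
  rw [← combo_and ha, h, combo_and hb]

theorem cmb_lt {c : ℕ} (hc : c < 4096) : cmb c < 2 ^ 24 := by rw [cmb_eq hc]; exact combo_lt hc

theorem cmb_code {c : ℕ} (hc : c < 4096) : mset (cmb c) ∈ codeSets := by
  rw [cmb_eq hc]
  refine (mset_mem_supports_iff (combo_lt hc)).2 ?_
  rw [isCode, combo_and hc]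
  exact beq_self_eq_true _

theorem cmb_xor {a b : ℕ} (ha : a < 4096) (hb : b < 4096) : cmb (Nat.xor a b) = cmb a ^^^ cmb b := by
  show cmb (a ^^^ b) = _
  rw [cmb_eq (Nat.xor_lt_two_pow (n := 12) ha hb), cmb_eq ha, cmb_eq hb]
  exact combo_xor a b

theorem bit_eq (x : ℕ) : Nat.beq (Nat.land (Nat.shiftRight x 23) 1) 1 = x.testBit 23 := by
  rw [Bool.eq_iff_iff, Nat.beq_eq]
  show (x >>> 23) &&& 1 = 1 ↔ _
  rw [Nat.and_one_is_mod, Nat.testBit, Nat.one_and_eq_mod_two]
  simp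

theorem cn_spec {c : ℕ} (hc : c < 4096) :
    cn c < 4096 ∧ cmb (cn c) = nrm (cmb c) ∧ (cmb (cn c)).testBit 23 = false := by
  have hkey : cn c < 4096 ∧ cmb (cn c) = nrm (cmb c) := by
    unfold cn nrm
    rw [bit_eq]
    cases (cmb c).testBit 23
    · exact ⟨hc, rfl⟩
    · refine ⟨Nat.xor_lt_two_pow (n := 12) hc (by norm_num), ?_⟩
      simp only [cond_true]
      rw [cmb_xor hc (by norm_num), show cmb 4095 = 16777215 by decide +kernel]
  exact ⟨hkey.1, hkey.2, by rw [hkey.2]; exact (nrm_lt (cmb_lt hc)).2⟩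

/-- The element has the tabulated pair. -/
def EncI (x : Spor.Co1) (a : ℕ × ℕ) : Prop :=
  a.1 < 76 ∧ a.2 < 4096 ∧ Enc x (invList.getD a.1 0, cmb a.2)

theorem EncI.nbit {x : Spor.Co1} {a : ℕ × ℕ} (h : EncI x a) : (cmb a.2).testBit 23 = false := by
  obtain ⟨σ, _, _, _, _, _, h3⟩ := h.2.2
  exact h3

theorem EncI.cn_self {x : Spor.Co1} {a : ℕ × ℕ} (h : EncI x a) : cn a.2 = a.2 := by
  refine cmb_inj (cn_spec h.2.1).1 h.2.1 ?_
  rw [(cn_spec h.2.1).2.1, nrm, h.nbit]
  rfl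

theorem EncI.eq {x y : Spor.Co1} {a : ℕ × ℕ} (hx : EncI x a) (hy : EncI y a) : x = y :=
  hx.2.2.eq hy.2.2

theorem EncI.unique {x : Spor.Co1} {a b : ℕ × ℕ} (ha : EncI x a) (hb : EncI x b) : a = b := by
  have h := ha.2.2.unique hb.2.2
  rw [Prod.ext_iff] at h
  refine Prod.ext ?_ (cmb_inj ha.2.1 hb.2.1 h.2)
  have h1 := h.1
  have la : a.1 < invList.length := by rw [inv_check.2.1]; exact ha.1
  have lb : b.1 < invList.length := by rw [inv_check.2.1]; exact hb.1
  simp only [List.getD_eq_getElem _ _ la, List.getD_eq_getElem _ _ lb] at h1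
  exact (List.Nodup.getElem_inj_iff extra_check.2.1).1 h1

/-- The element of a tabulated pair. -/
theorem exists_encI {i c : ℕ} (hi : i < 76) (hc : c < 4096) (hcn : cn c = c) :
    ∃ x : Spor.Co1, EncI x (i, c) := by
  obtain ⟨σ, hσ, hpk, -⟩ := exists_invPerm hi
  have h := enc_kq hσ (cmb_lt hc) (cmb_code hc)
  rw [hpk, ← (cn_spec hc).2.1, hcn] at h
  exact ⟨_, hi, hc, h⟩

theorem mulI_spec {i j : ℕ} (hi : i < 76) (hj : j < 76) :
    (mulI i j = 127 ↔ pcomp (invList.getD i 0) (invList.getD j 0) ≠ pcomp (invList.getD j 0) (invList.getD i 0)) ∧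
      (mulI i j ≠ 127 → mulI i j < 76 ∧
        invList.getD (mulI i j) 0 = pcomp (invList.getD i 0) (invList.getD j 0)) := by
  have h := beq_all (beq_all mul_check hi) hj
  simp only [pcF_eq] at h
  by_cases e : mulI i j = 127
  · rw [e] at h
    simp only [Nat.beq_refl, cond_true, Bool.not_eq_true', ← Bool.not_eq_true, Nat.beq_eq] at h
    exact ⟨iff_of_true e h, fun h' => absurd e h'⟩
  · rw [nbeq_false e, cond_false, Bool.and_eq_true, decide_eq_true_eq, Nat.beq_eq] at h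
    refine ⟨iff_of_false e (fun hne => hne ?_), fun _ => h⟩
    obtain ⟨σ, -, hs, -, -, -, hs2⟩ := exists_invPerm hi
    obtain ⟨τ, -, ht, -, -, -, ht2⟩ := exists_invPerm hj
    obtain ⟨ρ, -, hr, -, -, -, hr2⟩ := exists_invPerm h.1
    rw [h.2, ← hs, ← ht, ← pk_mul] at hr
    rw [← hs, ← ht, ← pk_mul, ← pk_mul]
    have e1 := pk_inj hr
    refine congrArg pk ?_
    rw [e1] at hr2
    calc σ * τ = (σ * τ)⁻¹ := (inv_eq_of_mul_eq_one_right hr2).symm
      _ = τ * σ := by rw [mul_inv_rev, inv_eq_of_mul_eq_one_right hs2, inv_eq_of_mul_eq_one_right ht2]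

theorem emul_cmb {i : ℕ} (hi : i < 76) {q c d : ℕ} (hc : c < 4096) (hd : d < 4096) :
    emul (invList.getD i 0, cmb c) (q, cmb d) =
      (pcomp (invList.getD i 0) q, cmb (cn (Nat.xor c (actI i d)))) := by
  refine Prod.ext rfl ?_
  show nrm (cmb c ^^^ pimg (invList.getD i 0) (cmb d)) = _
  have h1 : cmb (cn (Nat.xor c (actI i d))) = nrm (cmb (Nat.xor c (actI i d))) :=
    (cn_spec (Nat.xor_lt_two_pow (n := 12) hc (actI_lt i d))).2.1
  refine Eq.trans ?_ h1.symm
  rw [cmb_xor hc (actI_lt i d), actI_spec hi hd]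

theorem EncI.mul {x y : Spor.Co1} {a b : ℕ × ℕ} (ha : EncI x a) (hb : EncI y b) (h : mulI a.1 b.1 ≠ 127) :
    EncI (x * y) (emI a b) := by
  obtain ⟨h1, h2⟩ := (mulI_spec ha.1 hb.1).2 h
  have hlt := Nat.xor_lt_two_pow (n := 12) ha.2.1 (actI_lt a.1 b.2)
  refine ⟨h1, (cn_spec hlt).1, ?_⟩
  have hm := ha.2.2.mul hb.2.2
  rw [emul_cmb ha.1 ha.2.1 hb.2.1, ← h2] at hm
  exact hm

theorem EncI.commute {x y : Spor.Co1} {a b : ℕ × ℕ} (ha : EncI x a) (hb : EncI y b) :
    Commute x y ↔ comI a b = true := by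
  rw [ha.2.2.commute hb.2.2, emul_cmb ha.1 ha.2.1 hb.2.1, emul_cmb hb.1 hb.2.1 ha.2.1, Prod.ext_iff]
  simp only [comI, Bool.and_eq_true, Bool.not_eq_true', ← Bool.not_eq_true, Nat.beq_eq]
  refine and_congr ⟨fun h e => (mulI_spec ha.1 hb.1).1.1 e h,
    fun h => by_contra fun e => h ((mulI_spec ha.1 hb.1).1.2 e)⟩ ?_
  exact ⟨fun h => cmb_inj (cn_spec (Nat.xor_lt_two_pow (n := 12) ha.2.1 (actI_lt _ _))).1
    (cn_spec (Nat.xor_lt_two_pow (n := 12) hb.2.1 (actI_lt _ _))).1 h, fun h => by rw [h]⟩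

theorem EncI.zI_iff {x : Spor.Co1} {a : ℕ × ℕ} (ha : EncI x a) (hx : x * x = 1) : CZ x ↔ zI a = true := by
  rw [ha.2.2.CZ_iff hx]
  have hf := beq_all fix_check ha.1
  rw [Nat.beq_eq] at hf
  simp only [zb, zI, tsum, hf, Bool.and_eq_true, Nat.beq_eq, ← actI_spec ha.1 ha.2.1]
  exact and_congr ⟨fun h => cmb_inj (actI_lt _ _) ha.2.1 h, fun h => by rw [h]⟩ Iff.rfl

theorem oneP_enc : EncI (1 : Spor.Co1) oneP := by
  refine ⟨inv_check.2.2.2, by norm_num [oneP], ?_⟩
  show Enc 1 (invList.getD invId 0, cmb 0)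
  rw [inv_check.2.2.1, cmb_eq (show 0 < 4096 by norm_num), combo_zero]
  exact enc_one

theorem dP_enc : EncI dEl dP := by
  refine ⟨inv_check.2.2.2, extra_check.2.2.2.2.2.2, ?_⟩
  show Enc dEl (invList.getD invId 0, cmb dP.2)
  rw [inv_check.2.2.1, extra_check.2.2.2.2.2.1]
  exact enc_dEl

theorem EncI.cn_act {x : Spor.Co1} {a : ℕ × ℕ} (ha : EncI x a) (hx : x * x = 1) :
    cn (Nat.xor a.2 (actI a.1 a.2)) = 0 := by
  have h := Enc.unique (ha.2.2.mul ha.2.2) (hx ▸ enc_one)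
  rw [emul_cmb ha.1 ha.2.1 ha.2.1] at h
  have h2 := congrArg Prod.snd h
  simp only at h2
  refine cmb_inj (cn_spec (Nat.xor_lt_two_pow (n := 12) ha.2.1 (actI_lt _ _))).1 (by norm_num) ?_
  rw [h2, cmb_eq (show 0 < 4096 by norm_num), combo_zero]

end Cfsg.Lib.CoOneUniq
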