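import Cfsg.Agent.Lib.Extra.CoOneUniq.Classes.Trace
import Cfsg.Agent.Lib.Concrete.MathieuSearch

/-!
# Monomial elements of the first Conway group as packed pairs
-/

set_option autoImplicit false
set_option maxRecDepth 8000

namespace Cfsg.Lib.CoOneUniq

open Cfsg Cfsg.Lib.Concrete Cfsg.Lib.CoOne
open scoped Pointwise symmDiff

/-- The packed form of a permutation. -/
def pk (σ : Equiv.Perm GolayPt) : ℕ :=
  packList (bits24.map fun i => (gidx (σ (gpt (Fin.ofNat 24 i)))).val)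

theorem bits24_getD : ∀ i < 24, bits24.getD i 0 = i := by decide

theorem rep_pk (σ : Equiv.Perm GolayPt) : Rep σ (pk σ) := fun x => by
  have hi := (gidx x).isLt
  rw [pk, pget_packList _ (fun a ha => by
      obtain ⟨i, -, rfl⟩ := List.mem_map.1 ha
      exact lt_of_lt_of_le (gidx _).isLt (by norm_num)) _ (by simpa [bits24] using hi),
    List.getD_eq_getElem _ _ (by simpa [bits24] using hi), List.getElem_map, ← List.getD_eq_getElem _ 0,
    bits24_getD _ hi, Fin.ofNat_val_eq_self, gpt_gidx]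

theorem pk_one : pk 1 = pId := by decide +kernel

/-- The packed product. -/
def pcomp (p q : ℕ) : ℕ := packList (bits24.map fun i => pget p (pget q i))

theorem pk_mul (σ τ : Equiv.Perm GolayPt) : pk (σ * τ) = pcomp (pk σ) (pk τ) := by
  refine congrArg packList (List.map_congr_left fun i hi => ?_)
  have e : (gidx (gpt (Fin.ofNat 24 i))).val = i := by
    rw [gidx_gpt]; exact Nat.mod_eq_of_lt (mem_bits24.1 hi)
  rw [Equiv.Perm.mul_apply, rep_pk σ (τ _), rep_pk τ, e]

attribute [irreducible] pk pcomp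

theorem pk_inj {σ τ : Equiv.Perm GolayPt} (h : pk σ = pk τ) : σ = τ :=
  (rep_pk σ).ext (by rw [h]; exact rep_pk τ)

/-- The complement that avoids the extra point. -/
def nrm (m : ℕ) : ℕ := bif m.testBit 23 then m ^^^ 16777215 else m

theorem nrm_lt {m : ℕ} (h : m < 2 ^ 24) : nrm m < 2 ^ 24 ∧ (nrm m).testBit 23 = false := by
  unfold nrm
  cases e : m.testBit 23
  · exact ⟨h, e⟩
  · refine ⟨Nat.xor_lt_two_pow h (by norm_num), ?_⟩
    simp only [cond_true, Nat.testBit_xor, e]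
    decide

theorem pimg_lt {σ : Equiv.Perm GolayPt} {p : ℕ} (h : Rep σ p) (m : ℕ) : pimg p m < 2 ^ 24 :=
  orMask_lt _ _ _ fun i hi _ => by
    have e := h.apply ⟨i, mem_bits24.1 hi⟩
    rw [← e]
    exact (gidx _).isLt

/-- The monomial element `(σ, c)` of the quotient has the packed pair `a`. -/
def Enc (x : Spor.Co1) (a : ℕ × ℕ) : Prop :=
  ∃ (σ : Equiv.Perm GolayPt) (hσ : σ ∈ M24) (hc : mset a.2 ∈ codeSets),
    x = kq σ hσ (mset a.2) hc ∧ pk σ = a.1 ∧ a.2 < 2 ^ 24 ∧ a.2.testBit 23 = false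

theorem none_not_mem {m : ℕ} (h : m.testBit 23 = false) : (none : GolayPt) ∉ mset m := by
  rw [mem_mset, show ((gidx none : Fin 24) : ℕ) = 23 from rfl, h]
  exact Bool.false_ne_true

theorem Enc.unique {x : Spor.Co1} {a b : ℕ × ℕ} (ha : Enc x a) (hb : Enc x b) : a = b := by
  obtain ⟨σ, hσ, hc, rfl, h1, h2, h3⟩ := ha
  obtain ⟨τ, hτ, hd, e, g1, g2, g3⟩ := hb
  obtain ⟨rfl, e'⟩ := kq_inj _ _ _ _ (none_not_mem h3) (none_not_mem g3) e
  exact Prod.ext (h1.symm.trans g1) (mset_inj h2 g2 e')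

theorem Enc.eq {x y : Spor.Co1} {a : ℕ × ℕ} (ha : Enc x a) (hb : Enc y a) : x = y := by
  obtain ⟨σ, hσ, hc, rfl, h1, -, -⟩ := ha
  obtain ⟨τ, hτ, hd, rfl, g1, -, -⟩ := hb
  exact kq_congr _ _ _ _ (pk_inj (h1.trans g1.symm)) rfl

/-- Encoding a monomial element given by a mask. -/
theorem enc_kq {σ : Equiv.Perm GolayPt} (hσ : σ ∈ M24) {m : ℕ} (hm : m < 2 ^ 24)
    (hc : mset m ∈ codeSets) : Enc (kq σ hσ (mset m) hc) (pk σ, nrm m) := by
  cases e : m.testBit 23
  · have e' : nrm m = m := by simp [nrm, e]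
    refine ⟨σ, hσ, by rw [e']; exact hc, kq_congr _ _ _ _ rfl (by rw [e']), rfl, by rw [e']; exact hm,
      by rw [e']; exact e⟩
  · have e' : nrm m = m ^^^ 16777215 := by simp [nrm, e]
    have hs : mset (nrm m) = Finset.univ ∆ mset m := by
      rw [e', mset_xor, mset_full, symmDiff_comm]
    have hd : mset (nrm m) ∈ codeSets := hs.symm ▸ symmDiff_mem_supports CoOne.univ_mem hc
    have hk : kq σ hσ (mset m) hc = kq σ hσ (mset (nrm m)) hd :=
      (kq_univ_compl hσ hc).trans (kq_congr _ _ _ _ rfl hs.symm)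
    have hb := nrm_lt hm
    exact ⟨σ, hσ, hd, hk, rfl, hb.1, hb.2⟩

theorem exists_enc {σ : Equiv.Perm GolayPt} (hσ : σ ∈ M24) {c : Finset GolayPt} (hc : c ∈ codeSets) :
    ∃ m < 2 ^ 24, c = mset m ∧ Enc (kq σ hσ c hc) (pk σ, nrm m) := by
  obtain ⟨m, hm, rfl⟩ := mem_supports_iff.1 hc
  exact ⟨m, codeList_lt hm, rfl, enc_kq hσ (codeList_lt hm) hc⟩

/-- The product of packed pairs. -/
def emul (a b : ℕ × ℕ) : ℕ × ℕ := (pcomp a.1 b.1, nrm (a.2 ^^^ pimg a.1 b.2))

theorem Enc.mul {x y : Spor.Co1} {a b : ℕ × ℕ} (ha : Enc x a) (hb : Enc y b) : Enc (x * y) (emul a b) := by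
  obtain ⟨σ, hσ, hc, rfl, h1, h2, -⟩ := ha
  obtain ⟨τ, hτ, hd, rfl, g1, g2, -⟩ := hb
  have hs : mset a.2 ∆ (σ • mset b.2) = mset (a.2 ^^^ pimg a.1 b.2) := by
    rw [mset_xor, ← h1, (rep_pk σ).smul_mset]
  have hm : mset (a.2 ^^^ pimg a.1 b.2) ∈ codeSets := hs ▸ symmDiff_mem_supports hc (code_smul hσ hd)
  have h := enc_kq (mul_mem hσ hτ)
    (Nat.xor_lt_two_pow h2 (h1 ▸ pimg_lt (rep_pk σ) b.2)) hm
  rw [pk_mul, h1, g1] at h
  rw [kq_mul hσ hτ hc hd, kq_congr _ (mul_mem hσ hτ) _ hm rfl hs]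
  exact h

theorem enc_one : Enc (1 : Spor.Co1) (pId, 0) :=
  ⟨1, one_mem _, by rw [mset_zero]; exact empty_mem_codeSets,
    by rw [kq_congr (d := ∅) _ (one_mem _) _ empty_mem_codeSets rfl mset_zero, kq_one_empty],
    pk_one, by norm_num, by norm_num⟩

theorem enc_zEl : Enc zEl (pId, outMask) :=
  ⟨1, one_mem _, outMask_code, zEl_eq, pk_one, by decide +kernel, by decide +kernel⟩

/-- The mask of the complementary dodecad. -/
def dMask' : ℕ := 6709678

theorem enc_dEl : Enc dEl (pId, dMask') := by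
  have h := enc_kq (one_mem M24) dMask_facts.2.1 dMask_code
  rwa [pk_one, show nrm dMask = dMask' by decide +kernel] at h

theorem Enc.commute {x y : Spor.Co1} {a b : ℕ × ℕ} (ha : Enc x a) (hb : Enc y b) :
    Commute x y ↔ emul a b = emul b a := by
  constructor
  · intro h
    exact Enc.unique (ha.mul hb) (h.eq ▸ hb.mul ha)
  · intro h
    exact Enc.eq (ha.mul hb) (h ▸ hb.mul ha)

/-- The fixed points of a packed permutation. -/
def fmk (p : ℕ) : ℕ := orMask bits24 (fun i => Nat.beq (pget p i) i) id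

/-- The sign sum on the fixed points, up to multiples of thirteen. -/
def tsum (a : ℕ × ℕ) : ℕ := pcnt (fmk a.1) + 11 * pcnt (fmk a.1 &&& a.2)

/-- The test for the central class. -/
def zb (a : ℕ × ℕ) : Bool := Nat.beq (pimg a.1 a.2) a.2 && Nat.beq (tsum a ^ 2 % 13) 12

theorem mset_fmk {σ : Equiv.Perm GolayPt} {p : ℕ} (h : Rep σ p) :
    mset (fmk p) = Finset.univ.filter fun x => σ x = x := by
  ext x
  rw [mem_mset, fmk, testBit_orMask, Finset.mem_filter]
  simp only [Finset.mem_univ, true_and, id, Nat.beq_eq]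
  constructor
  · rintro ⟨i, -, hi, rfl⟩
    exact gidx_injective (Fin.ext ((h x).trans hi))
  · intro hx
    exact ⟨_, mem_bits24.2 (gidx x).isLt, by rw [← h x, hx], rfl⟩

theorem tr_mono_mask {σ : Equiv.Perm GolayPt} (hσ : σ ∈ M24) {p m : ℕ} (h : Rep σ p)
    (hc : mset m ∈ codeSets) : tr (monoCo0 σ hσ (mset m) hc) = (tsum (p, m) : ZMod 13) := by
  rw [tr_mono, tsum, ← Finset.sum_filter, ← mset_fmk h, ← mcnt_eq_pcnt, ← mcnt_eq_pcnt, ← mset_card,
    ← mset_card, mset_and]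
  rw [Finset.sum_ite, Finset.sum_const, Finset.sum_const, Finset.filter_mem_eq_inter]
  have hcard : ((mset (fmk p)).filter fun i => i ∉ mset m).card + (mset (fmk p) ∩ mset m).card =
      (mset (fmk p)).card := by
    rw [← Finset.filter_mem_eq_inter, add_comm, Finset.card_filter_add_card_filter_not]
  rw [← hcard]
  push_cast
  simp only [nsmul_eq_mul, mul_neg, mul_one]
  have h12 : (12 : ZMod 13) = -1 := by decide
  linear_combination (-((mset (fmk p) ∩ mset m).card : ZMod 13)) * h12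

/-- The central class among monomial involutions. -/
theorem Enc.CZ_iff {x : Spor.Co1} {a : ℕ × ℕ} (ha : Enc x a) (hx : x * x = 1) : CZ x ↔ zb a = true := by
  obtain ⟨σ, hσ, hc, rfl, h1, h2, -⟩ := id ha
  set g := monoCo0 σ hσ (mset a.2) hc with hgdef
  have htr : tr g = (tsum a : ZMod 13) := tr_mono_mask hσ (h1 ▸ rep_pk σ) hc
  have hσ2 : σ * σ = 1 := by
    have e := Enc.unique (ha.mul ha) (hx ▸ enc_one)
    have e1 := congrArg Prod.fst e
    simp only [emul, ← h1, ← pk_mul, ← pk_one] at e1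
    exact pk_inj e1
  have himg : mset (pimg a.1 a.2) = σ • mset a.2 := by rw [← h1, (rep_pk σ).smul_mset]
  have hsq : g * g = 1 ↔ pimg a.1 a.2 = a.2 := by
    have hm : mset a.2 ∆ (σ • mset a.2) ∈ codeSets := symmDiff_mem_supports hc (code_smul hσ hc)
    have e := mono_mul hσ hσ hc hc hm
    constructor
    · intro h
      rw [h] at e
      have hh : ∀ v : leechLattice, signedPerm (σ * σ) (mset a.2 ∆ (σ • mset a.2)) v = signedPerm 1 ∅ v :=
        fun v => by
          rw [← monoCo0_smul _ (mul_mem hσ hσ) _ hm v, ← e, one_smul]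
          funext p; simp [signedPerm, Equiv.Perm.one_symm]
      have h' := (mono_ext hh).2
      rw [← Finset.bot_eq_empty, symmDiff_eq_bot] at h'
      exact mset_inj (pimg_lt (h1 ▸ rep_pk σ) _) h2 (himg.trans h'.symm)
    · intro h
      have hs : mset a.2 ∆ (σ • mset a.2) = ∅ := by
        rw [← himg, h, symmDiff_self, Finset.bot_eq_empty]
      rw [e]
      refine co0_ext fun i => Subtype.ext (funext fun p => ?_)
      rw [monoCo0_smul, one_smul, hσ2, hs]
      simp [signedPerm, Equiv.Perm.one_symm]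
  have hsum : tr g ^ 2 = 12 ↔ tsum a ^ 2 % 13 = 12 := by
    rw [htr, ← Nat.cast_pow, ← ZMod.val_natCast (n := 13)]
    constructor
    · intro h; rw [h]; rfl
    · intro h; exact ZMod.val_injective 13 h
  simp only [zb, Bool.and_eq_true, Nat.beq_eq]
  constructor
  · intro hz
    obtain ⟨h3, h4⟩ := CZ_lift hz (show kap g = _ from rfl)
    exact ⟨hsq.1 h3, hsum.1 h4⟩
  · rintro ⟨h3, h4⟩
    exact ⟨g, rfl, hsq.2 h3, hsum.2 h4⟩

end Cfsg.Lib.CoOneUniq
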