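import Cfsg.Agent.Lib.CoOne.OctadExtra
import Cfsg.Agent.Lib.Concrete.LeechSimpleGroups
import Cfsg.Agent.S5388
import Cfsg.Agent.S5378

/-!
# The three classes of involutions of the first Conway group

They are told apart by the square of a lift and by the square of its trace modulo thirteen.
-/

set_option autoImplicit false
set_option maxRecDepth 8000
set_option linter.style.haveILetI false

namespace Cfsg.Lib.CoOneUniq

open Cfsg Cfsg.Lib.Concrete Cfsg.Lib.Leech Cfsg.Lib.CoOne
open scoped Pointwise symmDiff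

/-- The trace modulo thirteen. -/
noncomputable def tr (g : Co0) : ZMod 13 :=
  LinearMap.trace (ZMod 13) (GolayPt → ZMod 13) (act13 (g : Equiv.Perm leechLattice))

theorem act13_coe_mul (g h : Co0) :
    act13 ((g * h : Co0) : Equiv.Perm leechLattice) =
      act13 (g : Equiv.Perm leechLattice) * act13 (h : Equiv.Perm leechLattice) :=
  LinearMap.ext fun x => act13_mul g.2 h.2 x

theorem tr_comm (g h : Co0) : tr (g * h) = tr (h * g) := by
  rw [tr, tr, act13_coe_mul, act13_coe_mul, LinearMap.trace_mul_comm]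

theorem tr_conj (k g : Co0) : tr (k * g * k⁻¹) = tr g := by
  rw [tr_comm, inv_mul_cancel_left]

theorem act13_mono_diag (σ : Equiv.Perm GolayPt) (hσ : σ ∈ M24) (c : Finset GolayPt) (hc : c ∈ codeSets)
    (i : GolayPt) :
    act13 (monoCo0 σ hσ c hc : Equiv.Perm leechLattice) (Pi.single i 1) i =
      if σ i = i then (if i ∈ c then -1 else 1) else 0 := by
  have h8 : (Pi.single i (1 : ZMod 13) : GolayPt → ZMod 13) = (5 : ZMod 13) • red13 (e8 i) := by
    rw [red13_e8, smul_smul, show (5 : ZMod 13) * 8 = 1 by decide, one_smul]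
  rw [h8, map_smul, act13_red (monoCo0 σ hσ c hc).2, Pi.smul_apply, smul_eq_mul, red13, monoCo0_apply]
  rw [show ((e8 i : leechLattice) : GolayPt → ℤ) = Pi.single i 8 from rfl, signedPerm_single]
  by_cases h : σ i = i
  · rw [if_pos h, h, Pi.single_eq_same]
    split <;> rfl
  · rw [if_neg h, Pi.single_eq_of_ne (Ne.symm h)]
    rfl

theorem tr_mono (σ : Equiv.Perm GolayPt) (hσ : σ ∈ M24) (c : Finset GolayPt) (hc : c ∈ codeSets) :
    tr (monoCo0 σ hσ c hc) = ∑ i, if σ i = i then (if i ∈ c then -1 else 1) else (0 : ZMod 13) := by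
  rw [tr, LinearMap.trace_eq_matrix_trace (ZMod 13) (Pi.basisFun (ZMod 13) GolayPt), Matrix.trace]
  simp only [Matrix.diag_apply, LinearMap.toMatrix_apply, Pi.basisFun_repr, Pi.basisFun_apply, act13_mono_diag]

theorem kap_surj : Function.Surjective kap := QuotientGroup.mk'_surjective _

theorem eq_or_neg {g h : Co0} (e : kap g = kap h) : h = g ∨ h = g * negEl := by
  have h' := QuotientGroup.eq.1 e
  rcases center_cases h' with a | a
  · refine Or.inl (co0_ext fun i => ?_)
    have := congrArg (fun w => g • w) (a (e8 i))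
    simpa [mul_smul] using this
  · refine Or.inr (co0_ext fun i => ?_)
    have := congrArg (fun w => g • w) (a (e8 i))
    rw [mul_smul, smul_inv_smul] at this
    rw [mul_smul, negEl_smul]
    exact this

theorem negEl_comm (g : Co0) : negEl * g = g * negEl :=
  (Subgroup.mem_center_iff.1 negEl_center g).symm

theorem negEl_sq : negEl * negEl = (1 : Co0) :=
  co0_ext fun i => by rw [mul_smul, negEl_smul, negEl_smul, neg_neg, one_smul]

theorem negEl_ne : negEl ≠ (1 : Co0) := fun h => by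
  have h1 := congrArg (fun g : Co0 => ((g • e8 none : leechLattice) : GolayPt → ℤ) none) h
  simp [negEl_smul, e8] at h1

theorem kap_negEl : kap negEl = 1 := (QuotientGroup.eq_one_iff _).2 negEl_center

theorem tr_neg (g : Co0) : tr (g * negEl) = -tr g := by
  have h : act13 ((g * negEl : Co0) : Equiv.Perm leechLattice) = -act13 (g : Equiv.Perm leechLattice) :=
    linearMap_ext_e8 fun j => by
      rw [act13_red (g * negEl).2, LinearMap.neg_apply, act13_red g.2]
      funext p
      show red13 ((g * negEl) • e8 j) p = -red13 (g • e8 j) p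
      rw [mul_smul, negEl_smul, co0_neg]
      simp [red13]
  rw [tr, h, map_neg]; rfl

theorem sq_neg (g : Co0) : g * negEl * (g * negEl) = g * g := by
  rw [mul_assoc, ← mul_assoc negEl g, negEl_comm, mul_assoc g negEl, negEl_sq, mul_one]

/-- The central class. -/
def CZ (u : Spor.Co1) : Prop := ∃ g : Co0, kap g = u ∧ g * g = 1 ∧ tr g ^ 2 = 12

/-- The class of the sign changes on dodecads. -/
def CW (u : Spor.Co1) : Prop := ∃ g : Co0, kap g = u ∧ g * g = 1 ∧ tr g = 0

/-- The class of the elements with lifts of order four. -/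
def CX (u : Spor.Co1) : Prop := ∃ g : Co0, kap g = u ∧ g * g = negEl

theorem sq_lift {u : Spor.Co1} {g h : Co0} (hg : kap g = u) (hh : kap h = u) : h * h = g * g := by
  rcases eq_or_neg (hg.trans hh.symm) with rfl | rfl
  · rfl
  · exact sq_neg g

theorem CZ_lift {u : Spor.Co1} (h : CZ u) {g : Co0} (hg : kap g = u) : g * g = 1 ∧ tr g ^ 2 = 12 := by
  obtain ⟨k, hk, h1, h2⟩ := h
  refine ⟨by rw [sq_lift hk hg, h1], ?_⟩
  rcases eq_or_neg (hk.trans hg.symm) with rfl | rfl
  · exact h2
  · rw [tr_neg, neg_sq, h2]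

theorem CW_lift {u : Spor.Co1} (h : CW u) {g : Co0} (hg : kap g = u) : g * g = 1 ∧ tr g = 0 := by
  obtain ⟨k, hk, h1, h2⟩ := h
  refine ⟨by rw [sq_lift hk hg, h1], ?_⟩
  rcases eq_or_neg (hk.trans hg.symm) with rfl | rfl
  · exact h2
  · rw [tr_neg, h2, neg_zero]

theorem CX_lift {u : Spor.Co1} (h : CX u) {g : Co0} (hg : kap g = u) : g * g = negEl := by
  obtain ⟨k, hk, h1⟩ := h
  rw [sq_lift hk hg, h1]

theorem CZ_conj (k u : Spor.Co1) (h : CZ u) : CZ (k * u * k⁻¹) := by
  obtain ⟨g, rfl, h1, h2⟩ := h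
  obtain ⟨a, rfl⟩ := kap_surj k
  refine ⟨a * g * a⁻¹, by simp, ?_, by rw [tr_conj, h2]⟩
  rw [show a * g * a⁻¹ * (a * g * a⁻¹) = a * (g * g) * a⁻¹ by group, h1]; group

theorem CW_conj (k u : Spor.Co1) (h : CW u) : CW (k * u * k⁻¹) := by
  obtain ⟨g, rfl, h1, h2⟩ := h
  obtain ⟨a, rfl⟩ := kap_surj k
  refine ⟨a * g * a⁻¹, by simp, ?_, by rw [tr_conj, h2]⟩
  rw [show a * g * a⁻¹ * (a * g * a⁻¹) = a * (g * g) * a⁻¹ by group, h1]; group

theorem CX_conj (k u : Spor.Co1) (h : CX u) : CX (k * u * k⁻¹) := by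
  obtain ⟨g, rfl, h1⟩ := h
  obtain ⟨a, rfl⟩ := kap_surj k
  refine ⟨a * g * a⁻¹, by simp, ?_⟩
  rw [show a * g * a⁻¹ * (a * g * a⁻¹) = a * (g * g) * a⁻¹ by group, h1,
    Subgroup.mem_center_iff.1 negEl_center a, mul_inv_cancel_right]

theorem CZ_not_CW {u : Spor.Co1} (h : CZ u) : ¬ CW u := fun hw => by
  obtain ⟨g, hg, -, h2⟩ := h
  rw [(CW_lift hw hg).2] at h2
  exact absurd h2 (by decide)

theorem CX_not {u : Spor.Co1} (hx : CX u) : ¬ (CZ u ∨ CW u) := by
  obtain ⟨g, hg, h1⟩ := hx
  intro h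
  have : g * g = 1 := h.elim (fun h => (CZ_lift h hg).1) fun h => (CW_lift h hg).1
  exact negEl_ne (h1.symm.trans this)

theorem eleven_facts : ¬ ((11 : ZMod 13) ^ 2 = 12) ∧ ¬ ((11 : ZMod 13) = 0) := by decide

theorem ne_one_of_class {u : Spor.Co1} (h : CZ u ∨ CW u) : u ≠ 1 := by
  rintro rfl
  have h1 : kap (1 : Co0) = 1 := map_one _
  haveI : Fact (Nat.Prime 13) := ⟨by norm_num⟩
  have ht : tr 1 = 11 := by
    rw [tr, show act13 ((1 : Co0) : Equiv.Perm leechLattice) = LinearMap.id from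
      LinearMap.ext act13_one, LinearMap.trace_id]
    rw [Module.finrank_pi, show Fintype.card GolayPt = 24 from rfl]
    rfl
  rcases h with h | h
  · have := (CZ_lift h h1).2
    rw [ht] at this
    exact eleven_facts.1 this
  · have := (CW_lift h h1).2
    rw [ht] at this
    exact eleven_facts.2 this

theorem sq_one_of_class {u : Spor.Co1} (h : CZ u ∨ CW u) : u * u = 1 := by
  rcases h with ⟨g, rfl, h1, -⟩ | ⟨g, rfl, h1, -⟩ <;> rw [← map_mul, h1, map_one]

theorem CZ_zEl : CZ zEl := by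
  refine ⟨eps, rfl, co0_ext fun i => Subtype.ext (funext fun p => ?_), ?_⟩
  · rw [mul_smul, eps_smul, eps_smul, one_smul]
    split <;> simp
  · rw [tr, trace_eps]; decide

/-- A mask of a dodecad meeting the octad in two points. -/
def dMask : ℕ := 10067537

theorem dMask_facts : isCode dMask = true ∧ dMask < 2 ^ 24 ∧ pcnt dMask = 12 ∧
    Nat.land dMask m24BaseOctad = 8388609 := by decide +kernel

theorem dMask_code : mset dMask ∈ codeSets := (mset_mem_supports_iff dMask_facts.2.1).2 dMask_facts.1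

/-- The dodecad element. -/
noncomputable def dEl : Spor.Co1 := kq 1 (one_mem _) (mset dMask) dMask_code

theorem CW_dEl : CW dEl := by
  refine ⟨monoCo0 1 (one_mem _) (mset dMask) dMask_code, rfl, co0_ext fun i => Subtype.ext (funext fun p => ?_), ?_⟩
  · rw [mul_smul, monoCo0_smul, monoCo0_smul, one_smul]
    simp only [signedPerm, Equiv.Perm.one_symm, Equiv.Perm.one_apply]
    by_cases hb : dMask.testBit (gidx p).val = true <;> simp [mem_mset, hb]
  · rw [tr_mono]
    simp only [Equiv.Perm.one_apply, if_true]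
    decide +kernel

/-- A mask giving an element with a lift of order four over `projInv`. -/
def xMask : ℕ := 16375860

theorem xMask_code : mset xMask ∈ codeSets := (mset_mem_supports_iff (by decide +kernel)).2 (by decide +kernel)

/-- The element with a lift of order four. -/
noncomputable def xEl : Spor.Co1 := kq projInv projInv_mem (mset xMask) xMask_code

theorem CX_xEl : CX xEl := by
  have h : ∀ p : GolayPt, projInv.symm (projInv.symm p) = p ∧ (p ∈ mset xMask ↔ projInv.symm p ∉ mset xMask) := by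
    decide +kernel
  refine ⟨monoCo0 projInv projInv_mem (mset xMask) xMask_code, rfl, co0_ext fun i => Subtype.ext (funext fun p => ?_)⟩
  rw [mul_smul, negEl_smul, monoCo0_smul, monoCo0_smul, AddSubgroup.coe_neg, Pi.neg_apply]
  simp only [signedPerm, (h p).1]
  by_cases hp : p ∈ mset xMask
  · simp [hp, (h p).2.1 hp]
  · have : projInv.symm p ∈ mset xMask := by
      by_contra hn
      exact hp ((h p).2.2 hn)
    simp [hp, this]

theorem xEl_sq : xEl * xEl = 1 := by
  obtain ⟨g, hg, h1⟩ := CX_xEl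
  rw [← hg, ← map_mul, h1, kap_negEl]

theorem xEl_ne : xEl ≠ 1 := fun e => by
  obtain ⟨g, hg, h1⟩ := CX_xEl
  rw [e] at hg
  have := sq_lift (g := 1) (map_one kap) hg
  rw [one_mul, h1] at this
  exact negEl_ne this

theorem orderOf_two {G : Type*} [Group G] {u : G} (h : u * u = 1) (h1 : u ≠ 1) : orderOf u = 2 :=
  orderOf_eq_prime (by rw [pow_two, h]) h1

/-- Every involution is conjugate to one of the three elements. -/
theorem involution_cases {u : Spor.Co1} (hu : u * u = 1) (hu1 : u ≠ 1) :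
    IsConj zEl u ∨ IsConj dEl u ∨ IsConj xEl u := by
  haveI : Finite Co0 := finite_Co0
  obtain ⟨z, hz, Q, hN, hF, hQ, hc, ⟨e⟩, hnwc⟩ := Cfsg.Agent.S5388.result
  haveI := hN
  obtain ⟨a, b, c, -, -, -, -, -, -, hall⟩ := Cfsg.Agent.S5378.result z hz Q hF hQ hc e hnwc
  have hzd : ¬ IsConj zEl dEl := fun h => by
    obtain ⟨k, hk⟩ := isConj_iff.1 h
    exact CZ_not_CW (hk ▸ CZ_conj k _ CZ_zEl) CW_dEl
  have hx : ∀ {v}, CZ v ∨ CW v → ¬ IsConj xEl v := fun {v} hv h => by
    obtain ⟨k, hk⟩ := isConj_iff.1 h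
    exact CX_not (hk ▸ CX_conj k _ CX_xEl) hv
  have h1 := hall zEl (orderOf_two (sq_one_of_class (Or.inl CZ_zEl)) (ne_one_of_class (Or.inl CZ_zEl)))
  have h2 := hall dEl (orderOf_two (sq_one_of_class (Or.inr CW_dEl)) (ne_one_of_class (Or.inr CW_dEl)))
  have h3 := hall xEl (orderOf_two xEl_sq xEl_ne)
  have h4 := hall u (orderOf_two hu hu1)
  have hxz := hx (Or.inl CZ_zEl)
  have hxd := hx (Or.inr CW_dEl)
  have T : ∀ {p q r : Spor.Co1}, IsConj p r → IsConj q r → IsConj p q := fun h h' => h.trans h'.symm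
  rcases h4 with h4 | h4 | h4 <;> rcases h1 with h1 | h1 | h1 <;>
    (first
      | exact Or.inl (T h1 h4)
      | rcases h2 with h2 | h2 | h2 <;>
        (first
          | exact absurd (T h1 h2) hzd
          | exact Or.inr (Or.inl (T h2 h4))
          | rcases h3 with h3 | h3 | h3 <;>
            (first
              | exact absurd (T h3 h1) hxz
              | exact absurd (T h3 h2) hxd
              | exact Or.inr (Or.inr (T h3 h4)))))

theorem class_cases {u : Spor.Co1} (hu : u * u = 1) (hu1 : u ≠ 1) : CZ u ∨ CW u ∨ CX u := by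
  rcases involution_cases hu hu1 with h | h | h <;> obtain ⟨k, rfl⟩ := isConj_iff.1 h
  · exact Or.inl (CZ_conj k _ CZ_zEl)
  · exact Or.inr (Or.inl (CW_conj k _ CW_dEl))
  · exact Or.inr (Or.inr (CX_conj k _ CX_xEl))

theorem CZ_isConj {u : Spor.Co1} (h : CZ u) : IsConj zEl u := by
  rcases involution_cases (sq_one_of_class (Or.inl h)) (ne_one_of_class (Or.inl h)) with e | e | e
  · exact e
  · obtain ⟨k, hk⟩ := isConj_iff.1 e
    exact absurd (hk ▸ CW_conj k _ CW_dEl) (CZ_not_CW h)
  · obtain ⟨k, hk⟩ := isConj_iff.1 e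
    exact absurd (Or.inl h) (CX_not (hk ▸ CX_conj k _ CX_xEl))

theorem CW_isConj {u : Spor.Co1} (h : CW u) : IsConj dEl u := by
  rcases involution_cases (sq_one_of_class (Or.inr h)) (ne_one_of_class (Or.inr h)) with e | e | e
  · obtain ⟨k, hk⟩ := isConj_iff.1 e
    exact absurd h (CZ_not_CW (hk ▸ CZ_conj k _ CZ_zEl))
  · exact e
  · obtain ⟨k, hk⟩ := isConj_iff.1 e
    exact absurd (Or.inr h) (CX_not (hk ▸ CX_conj k _ CX_xEl))

theorem CX_isConj {u : Spor.Co1} (h : CX u) : IsConj xEl u := by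
  have hu : u * u = 1 := by
    obtain ⟨g, rfl, h1⟩ := h
    rw [← map_mul, h1, kap_negEl]
  have hu1 : u ≠ 1 := by
    rintro rfl
    obtain ⟨g, hg, h1⟩ := h
    have := sq_lift (g := 1) (map_one kap) hg
    rw [one_mul, h1] at this
    exact negEl_ne this
  rcases involution_cases hu hu1 with e | e | e
  · obtain ⟨k, hk⟩ := isConj_iff.1 e
    exact absurd (Or.inl (hk ▸ CZ_conj k _ CZ_zEl)) (CX_not h)
  · obtain ⟨k, hk⟩ := isConj_iff.1 e
    exact absurd (Or.inr (hk ▸ CW_conj k _ CW_dEl)) (CX_not h)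
  · exact e

/-- Lifts of elements commuting in the quotient commute if one is of the central class. -/
theorem lift_commute {u v : Spor.Co1} {g h : Co0} (hu : CZ u) (hg : kap g = u) (hh : kap h = v)
    (hc : Commute u v) : Commute g h := by
  obtain ⟨k, hk⟩ := isConj_iff.1 (CZ_isConj hu)
  obtain ⟨a, rfl⟩ := kap_surj k
  have hg' : g = a * eps * a⁻¹ ∨ g = a * eps * a⁻¹ * negEl :=
    eq_or_neg (show kap (a * eps * a⁻¹) = kap g by rw [hg, ← hk]; simp [zEl])
  have hb : a⁻¹ * h * a ∈ cEps := by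
    refine mem_cEps_of_commutator ((QuotientGroup.eq_one_iff _).1 ?_)
    show kap (a⁻¹ * h * a * eps * (a⁻¹ * h * a)⁻¹ * eps⁻¹) = 1
    have hc' : kap h * (kap a * kap eps * (kap a)⁻¹) = (kap a * kap eps * (kap a)⁻¹) * kap h := by
      rw [show kap a * kap eps * (kap a)⁻¹ = u from hk, hh]; exact hc.eq.symm
    simp only [map_mul, map_inv]
    calc (kap a)⁻¹ * kap h * kap a * kap eps * ((kap a)⁻¹ * kap h * kap a)⁻¹ * (kap eps)⁻¹
        = (kap a)⁻¹ * (kap h * (kap a * kap eps * (kap a)⁻¹) * (kap h)⁻¹) * kap a * (kap eps)⁻¹ := by group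
      _ = (kap a)⁻¹ * (kap a * kap eps * (kap a)⁻¹) * kap a * (kap eps)⁻¹ := by rw [hc', mul_inv_cancel_right]
      _ = 1 := by group
  have hE : Commute (a * eps * a⁻¹) h := by
    have h1 : Commute eps (a⁻¹ * h * a) := (mem_cEps.1 hb).symm
    have h2 := (Commute.conj_iff a).2 h1
    rwa [show a * (a⁻¹ * h * a) * a⁻¹ = h by group] at h2
  rcases hg' with rfl | rfl
  · exact hE
  · exact hE.mul_left (show Commute negEl h from negEl_comm h)

theorem zz_not_CX {u v : Spor.Co1} (hu : CZ u) (hv : CZ v) (hc : Commute u v) : ¬ CX (u * v) := by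
  intro hx
  obtain ⟨g, hg⟩ := kap_surj u
  obtain ⟨h, hh⟩ := kap_surj v
  have hcom := lift_commute hu hg hh hc
  have := CX_lift hx (show kap (g * h) = u * v by rw [map_mul, hg, hh])
  rw [hcom.symm.mul_mul_mul_comm, (CZ_lift hu hg).1, (CZ_lift hv hh).1, one_mul] at this
  exact negEl_ne this.symm

theorem zx_not_CW {u v : Spor.Co1} (hu : CZ u) (hv : CX v) (hc : Commute u v) : ¬ CW (u * v) := by
  intro hw
  obtain ⟨g, hg⟩ := kap_surj u
  obtain ⟨h, hh⟩ := kap_surj v
  have hcom := lift_commute hu hg hh hc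
  have := (CW_lift hw (show kap (g * h) = u * v by rw [map_mul, hg, hh])).1
  rw [hcom.symm.mul_mul_mul_comm, (CZ_lift hu hg).1, CX_lift hv hh, one_mul] at this
  exact negEl_ne this

end Cfsg.Lib.CoOneUniq
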